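import Cfsg.Agent.FS.N.D.Fac
import Cfsg.Agent.OddOrderLocal.CommProd

/-!
# Uniqueness of the decomposition; `BoxD2` (helper7, project FS)
-/

set_option autoImplicit false

namespace Cfsg.Agent.FS.N.D

open Cfsg Cfsg.FusionSystem Cfsg.Agent.H802 Cfsg.Agent.H752 Cfsg.Agent.FS.Th Cfsg.Agent.S5130
open Cfsg.Agent.OddOrderLocal.CommProd (card_sup_of_comm)

universe u

section gen

variable {Ω : Type u} [Group Ω] {S : Subgroup Ω} {F : FusionSystem S} {T R T' R' : Subgroup Ω}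

theorem sc_inf (h : F.StronglyClosed T) (h' : F.StronglyClosed R) : F.StronglyClosed (T ⊓ R) :=
  stronglyClosed_of_mp (inf_le_left.trans h.1) fun _ _ hf hP _ hx =>
    ⟨mp_mem_of_stronglyClosed h hf hx (hP hx).1, mp_mem_of_stronglyClosed h' hf hx (hP hx).2⟩

theorem cm_mem (h : F.StronglyClosed T) (h' : F.StronglyClosed R) {x y : Ω} (hx : x ∈ T) (hy : y ∈ R) :
    x * y * x⁻¹ * y⁻¹ ∈ T ⊓ R :=
  ⟨by
    rw [mul_assoc x, mul_assoc x]
    exact T.mul_mem hx (nz_of_sc h y (h'.1 hy) _ (T.inv_mem hx)), R.mul_mem (nz_of_sc h' x (h.1 hx) y hy) (R.inv_mem hy)⟩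

/-- the commutators of `S = T R = T' R'` -/
theorem cm_le (h : Setting F T R) (h' : Setting F T' R') {M : Subgroup Ω} (h1 : T ⊓ T' ≤ M) (h2 : T ⊓ R' ≤ M) (h3 : R ≤ M) :
    ∀ x ∈ S, ∀ y ∈ S, x * y * x⁻¹ * y⁻¹ ∈ M := fun x hx y hy => by
  obtain ⟨t, ht, r, hr, rfl⟩ := (mem_sup_iff h.comm).1 (h.sup.symm.le hx)
  have h4 := h3 (nz_of_sc h.sB t (h.sA.1 ht) _ (R.mul_mem hr (nz_of_sc h.sB y hy _ (R.inv_mem hr))))
  obtain ⟨a, ha, b, hb, rfl⟩ := (mem_sup_iff h'.comm).1 (h'.sup.symm.le hy)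
  convert M.mul_mem h4 (M.mul_mem (h1 (cm_mem h.sA h'.sA ht ha))
    (h2 (nz_of_sc (sc_inf h.sA h'.sB) a (h'.sA.1 ha) _ (cm_mem h.sA h'.sB ht hb)))) using 1
  group

variable [Finite S]

theorem fix_top (h : F.StronglyClosed T) (ha : IsPGroup 2 (MulAut T)) {f : Ω → Ω} (hf : Od F S f) {x : Ω} (hx : x ∈ T) :
    f x = x := by
  obtain ⟨k, hk, h1⟩ := hf.2.2
  exact fix_of_aut ha (fun a ha b hb => hf.1.mul (h.1 ha) (h.1 hb)) (fun a ha => mp_mem_of_stronglyClosed h hf.1 (h.1 ha) ha)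
    hk (fun a ha => h1 a (h.1 ha)) hx

theorem le_or_le (hS : IsPGroup 2 S) (hF : Hyp F) (h : Setting F T R) (h' : Setting F T' R') (hc : Nat.card T < 32) :
    T ≤ T' ∨ T ≤ R' := by
  have : Fact (Nat.Prime 2) := ⟨Nat.prime_two⟩
  have := finite_of_le h.sA.1
  by_cases hne : T = ⊥
  · exact Or.inl (hne ▸ bot_le)
  obtain ⟨E, hE⟩ := exists_fac hS hF h
  have ha := aut_two (hS.to_le h.sA.1) hE hne hc
  have h1 := sc_inf h.sA h'.sA
  have h2 := sc_inf h.sA h'.sB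
  have h3 : T ≤ T ⊓ T' ⊔ T ⊓ R' := le_of_le_sup h.inf h.comm (sup_le inf_le_left inf_le_left)
    (h.sA.1.trans (hF.hyp.symm.le.trans (le_of_sc hS hF.sat
      (S5128.result 2 hS F hF.sat _ _ (S5128.result 2 hS F hF.sat _ _ h1 h2) h.sB)
      (cm_le h h' (le_sup_left.trans le_sup_left) (le_sup_right.trans le_sup_left) le_sup_right) fun f hf x hx => by
        obtain ⟨t, ht, r, hr, rfl⟩ := (mem_sup_iff h.comm).1 (h.sup.symm.le hx)
        rw [hf.1.mul (h.sA.1 ht) (h.sB.1 hr), fix_top h.sA ha hf ht, mul_inv_rev, mul_assoc, inv_mul_cancel_left]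
        exact Subgroup.mem_sup_right (R.mul_mem (R.inv_mem hr) (mp_mem_of_stronglyClosed h.sB hf.1 (h.sB.1 hr) hr)))))
  by_cases h4 : T ⊓ R' = ⊥
  · rw [h4, sup_bot_eq] at h3
    exact Or.inl (h3.trans inf_le_right)
  by_cases h5 : T ⊓ T' = ⊥
  · rw [h5, bot_sup_eq] at h3
    exact Or.inr (h3.trans inf_le_right)
  have h6 := Subgroup.card_le_of_le (sup_le inf_le_left inf_le_left : T ⊓ T' ⊔ T ⊓ R' ≤ T)
  rw [card_sup_of_comm (H := T ⊓ T') (K := T ⊓ R') (fun a ha b hb => h'.comm a ha.2 b hb.2)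
    (le_bot_iff.1 (h'.inf ▸ inf_le_inf inf_le_right inf_le_right))] at h6
  have h7 := Nat.mul_le_mul (eight_le hS hF.sat hF.core h1 h5) (eight_le hS hF.sat hF.core h2 h4)
  omega

/-- the complement of a small factor is unique -/
theorem le_of_same (hS : IsPGroup 2 S) (hF : Hyp F) (h : Setting F T R) (h' : Setting F T R') (hc : Nat.card T < 32) :
    R ≤ R' := by
  have : Fact (Nat.Prime 2) := ⟨Nat.prime_two⟩
  have := finite_of_le h.sA.1
  by_cases hne : T = ⊥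
  · rw [← bot_sup_eq R', ← hne, h'.sup]
    exact h.sB.1
  obtain ⟨E, hE⟩ := exists_fac hS hF h
  have ha := aut_two (hS.to_le h.sA.1) hE hne hc
  refine (le_of_le_sup h.symm.inf h.symm.comm (inf_le_left : R ⊓ R' ≤ R) (h.sB.1.trans (hF.hyp.symm.le.trans
    (le_of_sc hS hF.sat (S5128.result 2 hS F hF.sat _ _ (sc_inf h.sB h'.sB) h.sA)
      (cm_le h.symm h' (inf_le_right.trans le_sup_right) le_sup_left le_sup_right) fun f hf x hx => ?_)))).trans inf_le_right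
  obtain ⟨t, ht, r, hr, rfl⟩ := (mem_sup_iff h.comm).1 (h.sup.symm.le hx)
  rw [hf.1.mul (h.sA.1 ht) (h.sB.1 hr), fix_top h.sA ha hf ht, mul_inv_rev, mul_assoc, inv_mul_cancel_left]
  refine Subgroup.mem_sup_left ⟨R.mul_mem (R.inv_mem hr) (mp_mem_of_stronglyClosed h.sB hf.1 (h.sB.1 hr) hr), ?_⟩
  obtain ⟨a, ha', b, hb, rfl⟩ := (mem_sup_iff h'.comm).1 (h'.sup.symm.le (h.sB.1 hr))
  rw [hf.1.mul (h.sA.1 ha') (h'.sB.1 hb), fix_top h.sA ha hf ha', mul_inv_rev, mul_assoc, inv_mul_cancel_left]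
  exact R'.mul_mem (R'.inv_mem hb) (mp_mem_of_stronglyClosed h'.sB hf.1 (h'.sB.1 hb) hb)

/-- **Uniqueness.** -/
theorem uniq (hS : IsPGroup 2 S) (hF : Hyp F) (h : Setting F T R) (h' : Setting F T' R') (hne : T ≠ ⊥) (hc : Nat.card T < 32)
    (h1 : Nat.card T' = Nat.card T) (h2 : Nat.card S < 512) : (T' ≤ T ∧ R' ≤ R) ∨ (T' ≤ R ∧ R' ≤ T) := by
  have := finite_of_le h.sA.1
  have := finite_of_le h'.sA.1
  have := finite_of_le h.sB.1
  have := finite_of_le h'.sB.1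
  rcases le_or_le hS hF h' h (h1 ▸ hc) with k | k
  · obtain rfl := Subgroup.eq_of_le_of_card_ge k h1.ge
    exact Or.inl ⟨le_rfl, le_of_same hS hF h' h hc⟩
  refine Or.inr ⟨k, ?_⟩
  have hne' : T' ≠ ⊥ := fun m => hne (Subgroup.card_eq_one.1 (by rw [← h1, m, Subgroup.card_bot]))
  have h3 : T ≤ R' := (le_or_le hS hF h h' hc).resolve_left fun m => hne (le_bot_iff.1 (h.inf ▸ le_inf le_rfl (m.trans k)))
  have h4 : R = T' ⊔ R ⊓ R' := le_antisymm (fun x hx => by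
    obtain ⟨a, ha, b, hb, rfl⟩ := (mem_sup_iff h'.comm).1 (h'.sup.symm.le (h.sB.1 hx))
    exact Subgroup.mul_mem_sup ha ⟨(R.mul_mem_cancel_left (k ha)).1 hx, hb⟩) (sup_le k inf_le_left)
  have h5 := card_sup_of_comm h.comm h.inf
  have h6 := card_sup_of_comm h'.comm h'.inf
  rw [h.sup] at h5
  rw [h'.sup, h1, h5] at h6
  have h7 := card_sup_of_comm (H := T') (K := R ⊓ R') (fun a ha b hb => h'.comm a ha b hb.2)
    (le_bot_iff.1 (h'.inf ▸ inf_le_inf le_rfl inf_le_right))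
  rw [← h4, h1] at h7
  by_cases h8 : R ⊓ R' = ⊥
  · rw [h8, Subgroup.card_bot, mul_one] at h7
    exact (Subgroup.eq_of_le_of_card_ge h3 (by rw [← Nat.eq_of_mul_eq_mul_left Nat.card_pos h6, h7])).ge
  · have h9 := eight_le hS hF.sat hF.core h.sA hne
    have h10 := Nat.mul_le_mul h9 (Nat.mul_le_mul h9 (eight_le hS hF.sat hF.core (sc_inf h.sB h'.sB) h8))
    rw [← h7, ← h5] at h10
    omega

end gen

section top

variable {A : Type} [Group A] {F : Sys A} {X Y : Subgroup A} {θ η : MulAut A}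

theorem keeps_conj (F : Sys A) (s : A) : Keeps (MulAut.conj s) F := fun P a b hab ha =>
  (((mp_conj F le_top (Subgroup.mem_top s⁻¹)).comp ha (by
    rintro _ ⟨x, hx, rfl⟩
    show s⁻¹ * (s * x * s⁻¹) * s⁻¹⁻¹ ∈ P
    rwa [show s⁻¹ * (s * x * s⁻¹) * s⁻¹⁻¹ = x by group])).comp (mp_conj F le_top (Subgroup.mem_top s))
      fun _ _ => Subgroup.mem_top _).congr (by
    rintro _ ⟨x, hx, rfl⟩
    show b (s * x * s⁻¹) = s * a (s⁻¹ * (s * x * s⁻¹) * s⁻¹⁻¹) * s⁻¹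
    rw [show s⁻¹ * (s * x * s⁻¹) * s⁻¹⁻¹ = x by group]
    exact hab x hx)

theorem keeps_mul (h : Keeps θ F) (h' : Keeps η F) : Keeps (θ * η) F := fun P a b hab ha => by
  have h1 := h _ _ b ?_ (h' P a (fun y => η (a (η⁻¹ y))) (fun x _ => by rw [MulAut.inv_apply_self]) ha)
  · rwa [Subgroup.map_map] at h1
  · rintro _ ⟨x, hx, rfl⟩
    show b (θ (η x)) = θ (η (a (η⁻¹ (η x))))
    rw [MulAut.inv_apply_self]
    exact hab x hx

theorem keeps_inv [Finite A] (h : Keeps θ F) : Keeps θ⁻¹ F := by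
  have h1 : ∀ n : ℕ, Keeps (θ ^ (n + 1)) F := fun n => by
    induction n with
    | zero => rwa [zero_add, pow_one]
    | succ n ih => exact pow_succ θ (n + 1) ▸ keeps_mul ih h
  have h2 := orderOf_pos θ
  have h3 : θ⁻¹ = θ ^ (2 * orderOf θ - 2 + 1) := by
    rw [inv_eq_iff_mul_eq_one, ← pow_succ', show 2 * orderOf θ - 2 + 1 + 1 = orderOf θ * 2 by omega, pow_mul,
      pow_orderOf_eq_one, one_pow]
  exact h3 ▸ h1 _

theorem keeps_od (h : Keeps θ F) {P : Subgroup A} {f : A → A} (hf : Od F P f) :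
    Od F (P.map θ.toMonoidHom) fun y => θ (f (θ⁻¹ y)) := by
  obtain ⟨h1, h2, k, hk, h3⟩ := hf
  refine ⟨h P f _ (fun x _ => by rw [MulAut.inv_apply_self]) h1, ?_, k, hk, ?_⟩
  · rintro _ ⟨x, hx, rfl⟩
    exact ⟨f x, h2 x hx, congrArg (fun y => θ (f y)) (MulAut.inv_apply_self A θ x).symm⟩
  · rintro _ ⟨x, hx, rfl⟩
    have h4 : ∀ j, (fun y => θ (f (θ⁻¹ y)))^[j] (θ x) = θ (f^[j] x) := fun j => by
      induction j with
      | zero => rfl
      | succ j ih => rw [Function.iterate_succ_apply', Function.iterate_succ_apply', ih, MulAut.inv_apply_self]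
    exact (h4 k).trans (congrArg θ (h3 x hx))

theorem keeps_hyp [Finite A] (h : Keeps θ F) {x : A} (hx : x ∈ hyp F) : θ x ∈ hyp F :=
  (hyp_le fun P f hf y hy => by
    have h1 := (keeps_od h hf).mem_hyp ⟨y, hy, rfl⟩
    simp only [MulEquiv.coe_toMonoidHom, MulAut.inv_apply_self, ← map_inv, ← map_mul] at h1
    exact h1 : hyp F ≤ (hyp F).comap θ.toMonoidHom) hx

theorem dec_symm (h : DecBy F X Y) : DecBy F Y X :=
  ⟨h.neY, h.neX, by rw [inf_comm, h.inf], by rw [sup_comm, h.sup], fun x hx y hy => (h.comm y hy x hx).symm,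
    fun P f hf x hx => (h.inv P f hf x hx).symm⟩

theorem dec_map [Finite A] (h : DecBy F X Y) (hθ : Keeps θ F) : DecBy F (X.map θ.toMonoidHom) (Y.map θ.toMonoidHom) := by
  refine ⟨fun k => h.neX ((Subgroup.map_eq_bot_iff_of_injective _ θ.injective).1 k),
    fun k => h.neY ((Subgroup.map_eq_bot_iff_of_injective _ θ.injective).1 k), ?_, ?_, ?_, fun P f hf x hx => ?_⟩
  · rw [← Subgroup.map_inf _ _ _ θ.injective, h.inf, Subgroup.map_bot]
  · rw [← Subgroup.map_sup, h.sup]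
    refine le_antisymm ?_ fun x hx => ⟨θ⁻¹ x, keeps_hyp (keeps_inv hθ) hx, MulAut.apply_inv_self A θ x⟩
    rintro _ ⟨x, hx, rfl⟩
    exact keeps_hyp hθ hx
  · rintro _ ⟨x, hx, rfl⟩ _ ⟨y, hy, rfl⟩
    rw [← map_mul, ← map_mul, h.comm x hx y hy]
  · have h1 := h.inv _ _ (keeps_od (keeps_inv hθ) hf) (θ⁻¹ x) ⟨x, hx, rfl⟩
    simp only [inv_inv, MulAut.apply_inv_self] at h1
    constructor
    · rintro ⟨y, hy, rfl⟩
      exact ⟨_, h1.1 ((MulAut.inv_apply_self A θ y).symm ▸ hy), MulAut.apply_inv_self A θ _⟩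
    · rintro ⟨y, hy, rfl⟩
      exact ⟨_, h1.2 ((MulAut.inv_apply_self A θ y).symm ▸ hy), MulAut.apply_inv_self A θ _⟩

theorem nz_dec (h : DecBy F X Y) : Nz (hyp F) X := fun s hs m hm => by
  obtain ⟨t, ht, r, hr, rfl⟩ := (mem_sup_iff h.comm).1 (h.sup.symm.le hs)
  rw [mul_assoc t, ← h.comm m hm r hr, mul_inv_rev, ← mul_assoc, ← mul_assoc, mul_inv_cancel_right]
  exact nz_self X t ht m hm

theorem set_of_dec [Finite A] (hA : IsPGroup 2 A) {E : FusionSystem (hyp F)} (hE : Sb F E) (h : DecBy F X Y) :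
    Setting E X Y :=
  ⟨sc_of_odd (hA.to_subgroup _) hE.sat (h.sup ▸ le_sup_left) (nz_dec h) fun P f _ hf x hx => (h.inv P f (hE.od' hf) x hx).1,
    sc_of_odd (hA.to_subgroup _) hE.sat (h.sup ▸ le_sup_right) (nz_dec (dec_symm h))
      fun P f _ hf x hx => (h.inv P f (hE.od' hf) x hx).2, h.comm, h.inf, h.sup⟩

/-- **`BoxD2`.** -/
theorem boxD2 : BoxD2 := by
  intro A _ _ hA hc F hF ⟨X, Y, h⟩
  have hS : IsPGroup 2 (⊤ : Subgroup A) := hA.to_subgroup ⊤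
  have hH : IsPGroup 2 (hyp F) := hA.to_subgroup _
  have hle : Nat.card (hyp F) ≤ Nat.card A := (hyp F).card_le_card_group
  wlog hX : Nat.card X < 32 generalizing X Y
  · refine this Y X (dec_symm h) ?_
    have h1 := card_sup_of_comm h.comm h.inf
    rw [h.sup] at h1
    by_contra k
    have h2 := Nat.mul_le_mul (not_lt.1 hX) (not_lt.1 k)
    omega
  obtain ⟨E, hE⟩ := exists_sb hS hF.sat le_top (nz_hyp hS hF.sat) le_rfl
  have h1 : Hyp E := ⟨hE.sat, hE.core hF.core, hE.hyp⟩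
  have h2 := set_of_dec hA hE h
  have h3 : ∀ θ : MulAut A, Keeps θ F → Nat.card (hyp F) < 512 →
      ((∀ x ∈ X, θ x ∈ X) ∧ ∀ x ∈ Y, θ x ∈ Y) ∨ ((∀ x ∈ X, θ x ∈ Y) ∧ ∀ x ∈ Y, θ x ∈ X) := fun θ hθ k =>
    (uniq hH h1 h2 (set_of_dec hA hE (dec_map h hθ)) h.neX hX (Subgroup.card_map_of_injective θ.injective) k).imp
      (fun m => ⟨fun x hx => m.1 ⟨x, hx, rfl⟩, fun x hx => m.2 ⟨x, hx, rfl⟩⟩)
      fun m => ⟨fun x hx => m.1 ⟨x, hx, rfl⟩, fun x hx => m.2 ⟨x, hx, rfl⟩⟩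
  have h4 : Pair X Y := ⟨h.neX, h.neY, h.inf, h.comm, fun s => by
    by_cases k : Nat.card (hyp F) < 512
    · exact h3 _ (keeps_conj F s) k
    · have h4 : s ∈ hyp F := (Subgroup.eq_top_of_card_eq (hyp F) (by omega)).ge (Subgroup.mem_top s)
      exact Or.inl ⟨nz_dec h s h4, nz_dec (dec_symm h) s h4⟩⟩
  have h5 : ∀ {X Y : Subgroup A}, Setting E X Y → X ≠ ⊥ → Nat.card X < 32 → IsPGroup 2 (MulAut X) := fun k1 k2 k3 => by
    obtain ⟨D, hD⟩ := exists_fac hH h1 k1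
    exact aut_two (hA.to_subgroup _) hD k2 k3
  refine ⟨X, Y, h4, fun P f hf => (odd_gen hS hF.sat (closed_decQ F h4) (fun P f _ hf => decQ_of_aut hf.1 hf.2.1
    (fun x hx => h.sup.symm ▸ hf.mem_hyp hx) (fun x hx => (h.inv P f hf x hx).1) fun x hx => (h.inv P f hf x hx).2) P f hf).decP,
    h5 h2 h.neX hX, h.sup, fun h7 θ hθ hk x hx => ?_⟩
  have hY : Nat.card Y < 32 := by
    have h6 := card_sup_of_comm h.comm h.inf
    rw [h.sup] at h6
    by_contra k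
    have h8 := Nat.mul_le_mul (eight_le hH h1.sat h1.core h2.sA h.neX) (not_lt.1 k)
    omega
  have h6 : (∀ x ∈ X, (θ * θ) x ∈ X) ∧ ∀ x ∈ Y, (θ * θ) x ∈ Y := by
    rcases h3 θ hk (by omega) with k | k
    · exact ⟨fun x hx => k.1 _ (k.1 x hx), fun x hx => k.2 _ (k.2 x hx)⟩
    · exact ⟨fun x hx => k.2 _ (k.1 x hx), fun x hx => k.1 _ (k.2 x hx)⟩
  have h8 : ∀ y, (θ * θ)^[orderOf θ] y = y := fun y => by
    have k : ∀ i : ℕ, (θ * θ)^[i] y = ((θ * θ) ^ i) y := fun i => by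
      induction i with
      | zero => rfl
      | succ i ih => rw [Function.iterate_succ_apply', ih, pow_succ', MulAut.mul_apply A (θ * θ)]
    rw [k, ← sq, ← pow_mul, mul_comm, pow_mul, pow_orderOf_eq_one, one_pow]
    rfl
  have h9 : (θ * θ) x = x := by
    obtain ⟨a, ha, b, hb, rfl⟩ := (mem_sup_iff h.comm).1 (h.sup.symm.le hx)
    rw [map_mul, fix_of_aut (h5 h2 h.neX hX) (fun a _ b _ => map_mul _ a b) h6.1 hθ (fun y _ => h8 y) ha,
      fix_of_aut (h5 h2.symm h.neY hY) (fun a _ b _ => map_mul _ a b) h6.2 hθ (fun y _ => h8 y) hb]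
  obtain ⟨j, hj⟩ := hθ
  have h10 : ∀ i : ℕ, ((θ * θ) ^ i) x = x := fun i => by
    induction i with
    | zero => rfl
    | succ i ih => rw [pow_succ, MulAut.mul_apply, h9, ih]
  have h11 := h10 (j + 1)
  rwa [← sq, ← pow_mul, show 2 * (j + 1) = 2 * j + 1 + 1 from rfl, pow_succ, ← hj, pow_orderOf_eq_one, one_mul] at h11

end top

end Cfsg.Agent.FS.N.D
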