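import Cfsg.Agent.FS.N.D.Dec
import Cfsg.Agent.S5113
import Cfsg.Agent.S5120
import Cfsg.Agent.S5291
import Cfsg.Agent.S5145
import Cfsg.Agent.Lib.FrattiniPGroup

/-!
# Subsystems of `2`-power index (helper7, project FS)

`Sb F E`: `E` is a saturated subsystem with the same odd maps; `exists_sb`; `boxD3`.
-/

set_option autoImplicit false

namespace Cfsg.Agent.FS.N.D

open Cfsg Cfsg.FusionSystem Cfsg.Agent.H802 Cfsg.Agent.H752 Cfsg.Agent.FS.Th

universe u v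

section gen

variable {Ω : Type u} [Group Ω] {S : Subgroup Ω} {F : FusionSystem S}

theorem Od.keeps [Finite S] {P U : Subgroup Ω} {f : Ω → Ω} (h : Od F P f) (hH : F.hyperfocalSubgroup 2 ≤ U) {x : Ω}
    (hx : x ∈ P) (k : x ∈ U) : f x ∈ U :=
  (U.mul_mem_cancel_left (U.inv_mem k)).1 (hH (h.mem_hyp hx))

theorem Od.cut [Finite S] {P U : Subgroup Ω} {f : Ω → Ω} (h : Od F P f) (hH : F.hyperfocalSubgroup 2 ≤ U) :
    Od F (P ⊓ U) f :=
  h.res inf_le_left fun x hx => ⟨h.2.1 x hx.1, h.keeps hH hx.1 hx.2⟩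

/-- a saturated subsystem with the same odd maps -/
structure Sb (F : FusionSystem S) {U : Subgroup Ω} (E : FusionSystem U) : Prop where
  sat : E.IsSaturated 2
  mono : ∀ P f, Mp E P f → Mp F P f
  od : ∀ P f, P ≤ U → Od F P f → Od E P f
  core : F.core = ⊥ → E.core = ⊥
  hyp : E.hyperfocalSubgroup 2 = F.hyperfocalSubgroup 2

theorem Sb.od' {U : Subgroup Ω} {E : FusionSystem U} (h : Sb F E) {P : Subgroup Ω} {f : Ω → Ω} (hf : Od E P f) : Od F P f :=
  ⟨h.mono P f hf.1, hf.2⟩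

theorem exists_sb [Finite S] (hS : IsPGroup 2 S) (hF : F.IsSaturated 2) {U : Subgroup Ω} (hU : U ≤ S) (hn : Nz S U)
    (hH : F.hyperfocalSubgroup 2 ≤ U) : ∃ E : FusionSystem U, Sb F E := by
  have : Fact (Nat.Prime 2) := ⟨Nat.prime_two⟩
  have := finite_of_le hU
  obtain ⟨E, ⟨h1, h2⟩, -⟩ := S5113.result 2 hS F hF U hU hH
  have h3 := S5120.result 2 hS F hF U hU ⟨fun n k g => hn g g.2 n k⟩ hH E h1 h2
  have h4 : ∀ P f, P ≤ U → Od F P f → Od E P f := fun P f hP hf => by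
    obtain ⟨α, hα, k1, k2⟩ := hf.exists_aut
    refine ⟨(mp_fn hP (h2.2.2 P hP ⟨⟨α, hα⟩, Subgroup.subset_closure ?_, rfl⟩)).congr k2, hf.2⟩
    show Nat.Coprime (orderOf (⟨α, hα⟩ : F.autGroup P)) 2
    rw [← Subgroup.orderOf_coe]
    exact Nat.coprime_two_right.2 k1
  refine ⟨E, h1, fun _ _ => mp_mono h2.1, h4, fun hc => le_bot_iff.1 fun x hx => ?_, le_antisymm
    (hyp_le fun P f hf x hx => Od.mem_hyp ⟨mp_mono h2.1 hf.1, hf.2⟩ hx) (hyp_le fun P f hf x hx => hf.two hS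
      (fun y hy => hH (hf.mem_hyp hy)) (fun y hy k => (h4 _ f inf_le_right (hf.cut hH)).mem_hyp ⟨hy, k⟩) hx)⟩
  have h5 := S5145.result E
  obtain ⟨φ, hφ, h6⟩ := mp_id F (h5.1.trans hU)
  exact hc ▸ H759.IsNormal.le_core (S5291.result 2 hS F hF E h3.1 _ h5)
    (Subgroup.subset_closure ⟨φ, hφ, ⟨x, hx⟩, (h6 x hx).symm⟩)

theorem od_pull {Ω' : Type v} [Group Ω'] {e : Ω' →* Ω} {he : Function.Injective e} {T : Subgroup Ω'} {X : FusionSystem T}
    (h : H759.IsPush he X F) {P : Subgroup Ω'} {b : Ω → Ω} (hb : Od F (P.map e) b) :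
    ∃ a, Od X P a ∧ ∀ x ∈ P, b (e x) = e (a x) := by
  have h1 : ∀ x, x ∈ P → ∃ y, y ∈ P ∧ e y = b (e x) := fun x hx => hb.2.1 _ ⟨x, hx, rfl⟩
  choose! a h2 h3 using h1
  obtain ⟨k, hk, h4⟩ := hb.2.2
  have h5 : ∀ j, ∀ x ∈ P, e (a^[j] x) = b^[j] (e x) := fun j x hx => by
    induction j with
    | zero => rfl
    | succ j ih => rw [Function.iterate_succ_apply', Function.iterate_succ_apply', h3 _ (iter_mem h2 j hx), ih]
  exact ⟨a, ⟨(mp_push_iff h fun x hx => (h3 x hx).symm).1 hb.1, h2, k, hk, fun x hx =>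
    he ((h5 k x hx).trans (h4 _ ⟨x, hx, rfl⟩))⟩, fun x hx => (h3 x hx).symm⟩

/-- a subgroup containing the hyperfocal subgroup and the commutators contains the focal subgroup -/
theorem foc_of_hyp [Finite S] (hS : IsPGroup 2 S) (hF : F.IsSaturated 2) {M : Subgroup Ω}
    (hM : ∀ x ∈ S, ∀ y ∈ S, x * y * x⁻¹ * y⁻¹ ∈ M) (hH : F.hyperfocalSubgroup 2 ≤ M) : ∀ P f, Mp F P f → focP M P f :=
  odd_gen hS hF (closed_focP F M hM) fun _ _ _ hf _ hx => hH (hf.mem_hyp hx)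

end gen

theorem exists_index_two {A : Type u} [Group A] [Finite A] (hA : IsPGroup 2 A) {H : Subgroup A} (hH : H ≠ ⊤) :
    ∃ M : Subgroup A, H ≤ M ∧ M.index = 2 := by
  have : Fact (Nat.Prime 2) := ⟨Nat.prime_two⟩
  obtain ⟨M, hM, h1⟩ := (eq_top_or_exists_le_coatom H).resolve_left hH
  exact ⟨M, h1, Lib.FrattiniPGroup.index_of_coatom hA hM⟩

/-- **`BoxD3`.** -/
theorem boxD3 : BoxD3 := by
  intro A _ _ hA F hF
  have : Fact (Nat.Prime 2) := ⟨Nat.prime_two⟩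
  have hS : IsPGroup 2 (⊤ : Subgroup A) := hA.to_subgroup ⊤
  refine ⟨fun h => ?_, fun M hM h => ?_⟩
  · obtain ⟨M, h1, h2⟩ := exists_index_two hA h
    refine ⟨M, h2, foc_of_hyp hS hF.sat (fun x _ y _ => ?_) h1⟩
    simp only [Subgroup.mul_mem_iff_of_index_two h2, M.inv_mem_iff]
    tauto
  · have h1 : hyp F ≤ M := hyp_le fun P f hf => h P f hf.1
    obtain ⟨E, hE⟩ := exists_sb hS hF.sat le_top
      (fun s _ m k => (Subgroup.normal_of_index_eq_two hM).conj_mem m k s) h1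
    obtain ⟨F₀, h2⟩ := H759.exists_pull' (hf := M.subtype_injective) (T₁ := ⊤)
      (by rw [← MonoidHom.range_eq_map, Subgroup.range_subtype]) E
    refine ⟨F₀, ⟨h2.isSaturated_iff.1 hE.sat, ?_⟩, fun ⟨X, Y, h3⟩ => hF.nd ⟨X.map M.subtype, Y.map M.subtype, ?_⟩⟩
    · have h3 := hE.core hF.core
      rwa [h2.core_eq, Subgroup.map_eq_bot_iff_of_injective _ M.subtype_injective] at h3
    · refine ⟨fun k => h3.neX ((Subgroup.map_eq_bot_iff_of_injective _ M.subtype_injective).1 k),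
        fun k => h3.neY ((Subgroup.map_eq_bot_iff_of_injective _ M.subtype_injective).1 k), ?_, ?_, ?_, fun P f hf x hx => ?_⟩
      · rw [← Subgroup.map_inf _ _ _ M.subtype_injective, h3.inf, Subgroup.map_bot]
      · rw [← Subgroup.map_sup, h3.sup, ← h2.hyperfocal_eq, hE.hyp]
      · rintro _ ⟨x, hx, rfl⟩ _ ⟨y, hy, rfl⟩
        rw [← map_mul, ← map_mul, h3.comm x hx y hy]
      · obtain ⟨a, h4, h5⟩ := od_pull h2 (P := P.subgroupOf M) (b := f) (by
          rw [Subgroup.subgroupOf_map_subtype]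
          exact hE.od _ f inf_le_right (Od.cut hf h1))
        constructor
        · rintro ⟨y, hy, rfl⟩
          exact ⟨a y, (h3.inv _ a h4 y hx).1 hy, (h5 y hx).symm⟩
        · rintro ⟨y, hy, rfl⟩
          exact ⟨a y, (h3.inv _ a h4 y hx).2 hy, (h5 y hx).symm⟩

end Cfsg.Agent.FS.N.D
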