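import Cfsg.Agent.FS.N.D.Odd
import Cfsg.Agent.S5124

/-!
# Pairs of commuting subgroups kept or swapped by all maps (helper7, project FS)

`Sp F T R`; `Sp.split`: an essential subgroup meets `T R` in a product; `decQ` is the closed form of `decP`;
`dec_of`: a system with trivial core all of whose maps have `decP` is decomposable.
-/

set_option autoImplicit false

namespace Cfsg.Agent.FS.N.D

open Cfsg Cfsg.FusionSystem Cfsg.Agent.H802 Cfsg.Agent.H752 Cfsg.Agent.FS.Th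
open scoped Pointwise

universe u

section gen

variable {Ω : Type u} [Group Ω] {S : Subgroup Ω} {F : FusionSystem S}

theorem mem_sup_iff {X Y : Subgroup Ω} (h : ∀ x ∈ X, ∀ y ∈ Y, x * y = y * x) {g : Ω} :
    g ∈ X ⊔ Y ↔ ∃ x ∈ X, ∃ y ∈ Y, g = x * y := by
  refine ⟨fun hg => ?_, ?_⟩
  · let V : Subgroup Ω :=
      { carrier := {g | ∃ x ∈ X, ∃ y ∈ Y, g = x * y}
        one_mem' := ⟨1, X.one_mem, 1, Y.one_mem, (one_mul 1).symm⟩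
        mul_mem' := by
          rintro _ _ ⟨a, ha, b, hb, rfl⟩ ⟨c, hc, d, hd, rfl⟩
          exact ⟨_, X.mul_mem ha hc, _, Y.mul_mem hb hd, by
            rw [mul_assoc, ← mul_assoc b, ← h c hc b hb, mul_assoc, mul_assoc]⟩
        inv_mem' := by
          rintro _ ⟨a, ha, b, hb, rfl⟩
          exact ⟨_, X.inv_mem ha, _, Y.inv_mem hb, by rw [h a ha b hb, mul_inv_rev]⟩ }
    exact (sup_le (fun x hx => ⟨x, hx, 1, Y.one_mem, (mul_one x).symm⟩)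
      (fun y hy => ⟨1, X.one_mem, y, hy, (one_mul y).symm⟩) : X ⊔ Y ≤ V) hg
  · rintro ⟨x, hx, y, hy, rfl⟩
    exact Subgroup.mul_mem_sup hx hy

/-- `f` sends `P ∩ T` into `T'` and `P ∩ R` into `R'` -/
def To (P T R T' R' : Subgroup Ω) (f : Ω → Ω) : Prop := ∀ x ∈ P, (x ∈ T → f x ∈ T') ∧ (x ∈ R → f x ∈ R')

/-- all maps keep `T R` and keep or swap `T` and `R` -/
structure Sp (F : FusionSystem S) (T R : Subgroup Ω) : Prop where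
  leT : T ≤ S
  leR : R ≤ S
  inf : T ⊓ R = ⊥
  comm : ∀ x ∈ T, ∀ y ∈ R, x * y = y * x
  sup : ∀ P f, Mp F P f → ∀ x ∈ P, x ∈ T ⊔ R → f x ∈ T ⊔ R
  ks : ∀ P f, Mp F P f → To P T R T R f ∨ To P T R R T f

namespace Sp

variable {T R : Subgroup Ω}

theorem symm (h : Sp F T R) : Sp F R T :=
  ⟨h.leR, h.leT, by rw [inf_comm, h.inf], fun x hx y hy => (h.comm y hy x hx).symm, fun P f hf x hx => by
    rw [sup_comm]
    exact h.sup P f hf x hx, fun P f hf => (h.ks P f hf).imp (fun k x hx => (k x hx).symm) fun k x hx => (k x hx).symm⟩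

theorem one (h : Sp F T R) {x : Ω} (h1 : x ∈ T) (h2 : x ∈ R) : x = 1 :=
  Subgroup.mem_bot.1 (h.inf ▸ (⟨h1, h2⟩ : x ∈ T ⊓ R))

theorem le (h : Sp F T R) : T ⊔ R ≤ S := sup_le h.leT h.leR

theorem nz (h : Sp F T R) : Nz S (T ⊔ R) := fun _ hs m hm => h.sup S _ (mp_conj F le_rfl hs) m (h.le hm) hm

theorem nzT (h : Sp F T R) : Nz (T ⊔ R) T := fun s hs m hm => by
  obtain ⟨t, ht, r, hr, rfl⟩ := (mem_sup_iff h.comm).1 hs
  rw [mul_assoc t, ← h.comm m hm r hr, mul_inv_rev, ← mul_assoc, ← mul_assoc, mul_inv_cancel_right]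
  exact nz_self T t ht m hm

theorem nzR (h : Sp F T R) : Nz (T ⊔ R) R := by
  rw [sup_comm]
  exact h.symm.nzT

theorem cj (h : Sp F T R) {s : Ω} (hs : s ∈ S) :
    ((∀ x ∈ T, s * x * s⁻¹ ∈ T) ∧ ∀ x ∈ R, s * x * s⁻¹ ∈ R) ∨ ((∀ x ∈ T, s * x * s⁻¹ ∈ R) ∧ ∀ x ∈ R, s * x * s⁻¹ ∈ T) :=
  (h.ks S _ (mp_conj F le_rfl hs)).imp (fun k => ⟨fun x hx => (k x (h.leT hx)).1 hx, fun x hx => (k x (h.leR hx)).2 hx⟩)
    fun k => ⟨fun x hx => (k x (h.leT hx)).1 hx, fun x hx => (k x (h.leR hx)).2 hx⟩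

/-- odd maps keep `T` -/
theorem odd (h : Sp F T R) {P : Subgroup Ω} {f : Ω → Ω} (hf : Od F P f) {x : Ω} (hx : x ∈ P) (h1 : x ∈ T) : f x ∈ T := by
  rcases h.ks P f hf.1 with k | k
  · exact (k x hx).1 h1
  · obtain ⟨h2, h3, _, ⟨j, rfl⟩, h4⟩ := hf
    have h5 : ∀ i, f^[2 * i] x ∈ T := fun i => by
      induction i with
      | zero => exact h1
      | succ i ih =>
        rw [show 2 * (i + 1) = (2 * i).succ.succ from rfl, Function.iterate_succ_apply', Function.iterate_succ_apply']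
        exact (k _ (h3 _ (iter_mem h3 _ hx))).2 ((k _ (iter_mem h3 _ hx)).1 ih)
    have h6 := (k _ (iter_mem h3 _ hx)).1 (h5 j)
    rw [← Function.iterate_succ_apply' f, show (2 * j).succ = 2 * j + 1 from rfl, h4 x hx] at h6
    rw [h.one h1 h6, h2.one]
    exact T.one_mem

/-- the automorphisms of `P` which are trivial modulo `T R` and inner on the two projections of `P ∩ T R` -/
def stb (h : Sp F T R) (P : Subgroup Ω) (hP : P ≤ S) : Subgroup (MulAut P) where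
  carrier := {β | β ∈ F.autGroup P ∧ (∀ x ∈ P, x⁻¹ * fn β x ∈ T ⊔ R) ∧ Cg (P ⊓ (T ⊔ R)) R (P ⊓ (T ⊔ R)) (fn β) ∧
    Cg (P ⊓ (T ⊔ R)) T (P ⊓ (T ⊔ R)) (fn β)}
  one_mem' := by
    have h1 : ∀ (M : Subgroup Ω), ∀ x ∈ P, x⁻¹ * fn (1 : MulAut P) x ∈ M := fun M x hx => by
      rw [fn_one hx, inv_mul_cancel]
      exact M.one_mem
    exact ⟨Subgroup.one_mem _, h1 _, Cg.of_triv fun x hx => h1 _ x hx.1, Cg.of_triv fun x hx => h1 _ x hx.1⟩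
  mul_mem' := by
    rintro a b ⟨h1, h2, h3, h4⟩ ⟨k1, k2, k3, k4⟩
    have h5 : ∀ x ∈ P ⊓ (T ⊔ R), fn b x ∈ P ⊓ (T ⊔ R) := fun x hx =>
      ⟨fn_mem b hx.1, h.sup P _ (mp_fn hP k1) x hx.1 hx.2⟩
    refine ⟨Subgroup.mul_mem _ h1 k1, fun x hx => ?_,
      (k3.comp (h.nzR.mono inf_le_right) h3 h5).congr fun x hx => fn_mul _ _ hx.1,
      (k4.comp (h.nzT.mono inf_le_right) h4 h5).congr fun x hx => fn_mul _ _ hx.1⟩
    have h6 := Subgroup.mul_mem _ (k2 x hx) (h2 _ (fn_mem b hx))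
    rwa [mul_assoc, mul_inv_cancel_left, ← fn_mul _ _ hx] at h6
  inv_mem' := by
    rintro a ⟨h1, h2, h3, h4⟩
    have h5 : ∀ y ∈ P ⊓ (T ⊔ R), ∃ x ∈ P ⊓ (T ⊔ R), fn a x = y ∧ fn a⁻¹ y = x := fun y hy =>
      ⟨_, ⟨fn_mem _ hy.1, h.sup P _ (mp_fn hP (Subgroup.inv_mem _ h1)) y hy.1 hy.2⟩, fn_fn_inv a hy.1, rfl⟩
    refine ⟨Subgroup.inv_mem _ h1, fun x hx => ?_, h3.inv (h.nzR.mono inf_le_right) h5, h4.inv (h.nzT.mono inf_le_right) h5⟩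
    have h6 := Subgroup.inv_mem _ (h2 _ (fn_mem a⁻¹ hx))
    rwa [fn_fn_inv a hx, mul_inv_rev, inv_inv] at h6

theorem stb_pg [Finite S] (h : Sp F T R) (hS : IsPGroup 2 S) {P : Subgroup Ω} (hP : P ≤ S) : IsPGroup 2 (h.stb P hP) := by
  have := finite_aut hP
  rintro ⟨β, hβ⟩
  obtain ⟨k, m, hm, h1⟩ := Nat.exists_eq_two_pow_mul_odd (orderOf_pos β).ne'
  refine ⟨k, Subtype.ext ?_⟩
  obtain ⟨h2, h3, h4, h5⟩ := (h.stb P hP).pow_mem hβ (2 ^ k)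
  have h6 := od_fn hP h2 hm (by rw [← pow_mul, ← h1, pow_orderOf_eq_one])
  have h7 : ∀ x ∈ P ⊓ (T ⊔ R), fn (β ^ 2 ^ k) x ∈ P ⊓ (T ⊔ R) := fun x hx =>
    ⟨fn_mem _ hx.1, h.sup P _ h6.1 x hx.1 hx.2⟩
  obtain ⟨j, hj, h8⟩ := h6.2.2
  ext x
  have h9 := h6.two hS (N := ⊥) h3 (fun y hy k => Subgroup.mem_bot.2 (h.one
    (h5.odd hS (inf_le_left.trans hP) (h.nzT.mono inf_le_right) h7 hj (fun z hz => h8 z hz.1) ⟨hy, k⟩)
    (h4.odd hS (inf_le_left.trans hP) (h.nzR.mono inf_le_right) h7 hj (fun z hz => h8 z hz.1) ⟨hy, k⟩))) x.2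
  rw [Subgroup.mem_bot, inv_mul_eq_one, fn_apply _ x.2] at h9
  exact h9.symm

theorem cg_conj (h : Sp F T R) {P : Subgroup Ω} (hP : P ≤ S) {α β : MulAut P} (hα : α ∈ F.autGroup P) (hβ : β ∈ F.autGroup P)
    {M M' : Subgroup Ω} (hM : ∀ x ∈ P, x ∈ M → fn α x ∈ M') (h1 : Cg (P ⊓ (T ⊔ R)) M (P ⊓ (T ⊔ R)) (fn β)) :
    Cg (P ⊓ (T ⊔ R)) M' (P ⊓ (T ⊔ R)) (fn (α * β * α⁻¹)) := by
  obtain ⟨s, hs, h2⟩ := h1
  have h3 := mp_fn hP hα
  refine ⟨fn α s, ⟨fn_mem _ hs.1, h.sup P _ h3 s hs.1 hs.2⟩, fun x hx => ?_⟩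
  have h4 : fn α⁻¹ x ∈ P := fn_mem _ hx.1
  have h5 := h2 _ ⟨h4, h.sup P _ (mp_fn hP (Subgroup.inv_mem _ hα)) x hx.1 hx.2⟩
  have h6 := hM _ (P.mul_mem (P.inv_mem h4) (P.mul_mem (P.mul_mem (P.inv_mem hs.1) (fn_mem β h4)) hs.1)) h5
  rw [h3.mul (P.inv_mem h4) (P.mul_mem (P.mul_mem (P.inv_mem hs.1) (fn_mem β h4)) hs.1),
    h3.mul (P.mul_mem (P.inv_mem hs.1) (fn_mem β h4)) hs.1, h3.mul (P.inv_mem hs.1) (fn_mem β h4), h3.inv h4, h3.inv hs.1,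
    fn_fn_inv α hx.1] at h6
  rw [fn_mul _ _ hx.1, fn_mul _ _ h4]
  exact h6

theorem stb_conj (h : Sp F T R) {P : Subgroup Ω} (hP : P ≤ S) {α β : MulAut P} (hα : α ∈ F.autGroup P)
    (hβ : β ∈ h.stb P hP) : α * β * α⁻¹ ∈ h.stb P hP := by
  obtain ⟨h1, h2, h3, h4⟩ := hβ
  have h5 := mp_fn hP hα
  refine ⟨Subgroup.mul_mem _ (Subgroup.mul_mem _ hα h1) (Subgroup.inv_mem _ hα), fun x hx => ?_, ?_⟩
  · have h6 : fn α⁻¹ x ∈ P := fn_mem _ hx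
    have h7 := h.sup P _ h5 _ (P.mul_mem (P.inv_mem h6) (fn_mem β h6)) (h2 _ h6)
    rw [h5.mul (P.inv_mem h6) (fn_mem β h6), h5.inv h6, fn_fn_inv α hx] at h7
    rw [fn_mul _ _ hx, fn_mul _ _ h6]
    exact h7
  · rcases h.ks P _ h5 with k | k
    · exact ⟨h.cg_conj hP hα h1 (fun x hx => (k x hx).2) h3, h.cg_conj hP hα h1 (fun x hx => (k x hx).1) h4⟩
    · exact ⟨h.cg_conj hP hα h1 (fun x hx => (k x hx).1) h4, h.cg_conj hP hα h1 (fun x hx => (k x hx).2) h3⟩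

/-- the projection of `P ∩ T R` to `T` -/
def pr (h : Sp F T R) (P : Subgroup Ω) : Subgroup Ω where
  carrier := {t | t ∈ T ∧ ∃ r ∈ R, t * r ∈ P}
  one_mem' := ⟨T.one_mem, 1, R.one_mem, by rw [one_mul]; exact P.one_mem⟩
  mul_mem' := by
    rintro a b ⟨ha, c, hc, h1⟩ ⟨hb, d, hd, h2⟩
    refine ⟨T.mul_mem ha hb, _, R.mul_mem hc hd, ?_⟩
    have h3 := P.mul_mem h1 h2
    rwa [mul_assoc, ← mul_assoc c, ← h.comm b hb c hc, mul_assoc, ← mul_assoc] at h3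
  inv_mem' := by
    rintro a ⟨ha, c, hc, h1⟩
    refine ⟨T.inv_mem ha, _, R.inv_mem hc, ?_⟩
    have h3 := P.inv_mem h1
    rwa [h.comm a ha c hc, mul_inv_rev] at h3

theorem cg_of (h : Sp F T R) {P : Subgroup Ω} {t r : Ω} (ht : t ∈ h.pr P) (hr : r ∈ R) {f : Ω → Ω}
    (hf : ∀ x ∈ P, f x = t * r * x * (t * r)⁻¹) : Cg (P ⊓ (T ⊔ R)) R (P ⊓ (T ⊔ R)) f := by
  obtain ⟨h1, c, hc, h2⟩ := ht
  refine ⟨t * c, ⟨h2, Subgroup.mul_mem_sup h1 hc⟩, fun x hx => ?_⟩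
  have h3 : c⁻¹ * r ∈ R := R.mul_mem (R.inv_mem hc) hr
  rw [hf x hx.1]
  convert R.mul_mem (h.nzR.inv hx.2 h3) (R.inv_mem h3) using 1
  group

/-- **An essential subgroup meets `T R` in a product.** -/
theorem split [Finite S] (h : Sp F T R) (hS : IsPGroup 2 S) (hF : F.IsSaturated 2) {P : Subgroup Ω}
    (hP : P = S ∨ F.IsEssential 2 P) {t r : Ω} (ht : t ∈ T) (hr : r ∈ R) (htr : t * r ∈ P) : t ∈ P := by
  have : Fact (Nat.Prime 2) := ⟨Nat.prime_two⟩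
  rcases hP with rfl | hP
  · exact h.leT ht
  have hPS : P ≤ S := hP.1.1
  have hc : ∀ x ∈ h.pr P, ∀ y ∈ h.symm.pr P, x * y = y * x := fun x hx y hy => h.comm x hx.1 y hy.1
  have hV : h.pr P ⊔ h.symm.pr P ≤ T ⊔ R := sup_le_sup (fun _ hx => hx.1) fun _ hx => hx.1
  have hn : Nz P (h.pr P ⊔ h.symm.pr P) := fun s hs => by
    have h1 : ∀ a b : Ω, a * b ∈ P → s * a * s⁻¹ * (s * b * s⁻¹) ∈ P := fun a b k => by
      convert nz_self P s hs _ k using 1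
      group
    rcases h.cj (hPS hs) with k | k
    · exact conj_sup (fun m ⟨k1, c, k2, k3⟩ => Subgroup.mem_sup_left ⟨k.1 m k1, _, k.2 c k2, h1 _ _ k3⟩)
        fun m ⟨k1, c, k2, k3⟩ => Subgroup.mem_sup_right ⟨k.2 m k1, _, k.1 c k2, h1 _ _ k3⟩
    · exact conj_sup (fun m ⟨k1, c, k2, k3⟩ => Subgroup.mem_sup_right ⟨k.1 m k1, _, k.2 c k2, h1 _ _ k3⟩)
        fun m ⟨k1, c, k2, k3⟩ => Subgroup.mem_sup_left ⟨k.2 m k1, _, k.1 c k2, h1 _ _ k3⟩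
  by_contra htP
  have hne : P ≠ P ⊔ (h.pr P ⊔ h.symm.pr P) := fun he =>
    htP (he ▸ Subgroup.mem_sup_right (Subgroup.mem_sup_left ⟨ht, r, hr, htr⟩))
  obtain ⟨g, ⟨hg1, hg2⟩, hgP⟩ := SetLike.exists_of_lt (lt_inf_normalizer hS le_sup_left (sup_le hPS (hV.trans h.le)) hne)
  have hfin := finite_of_le (hV.trans h.le)
  have hg3 : g ∈ (P : Set Ω) * ((h.pr P ⊔ h.symm.pr P : Subgroup Ω) : Set Ω) := by
    rw [← Subgroup.coe_mul_of_left_le_normalizer_right _ _ fun s hs => Subgroup.mem_normalizer_fintype (hn s hs)]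
    exact hg1
  obtain ⟨p, hp, v, hv, rfl⟩ := hg3
  have hv1 : v ∈ Subgroup.normalizer (P : Set Ω) :=
    (Subgroup.mul_mem_cancel_left _ (Subgroup.le_normalizer hp)).1 hg2
  obtain ⟨γ, hγ⟩ := exists_conjAut hv1
  have hγ' : ∀ x ∈ P, fn γ x = v * x * v⁻¹ := fun x hx => by rw [fn_apply _ hx, hγ]
  obtain ⟨D, hD, -, hne'⟩ := exists_ctx hS hF hP
  obtain ⟨α, hα, hαD⟩ := SetLike.not_le_iff_exists.1 hne'
  have hvS : v ∈ S := h.le (hV hv)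
  obtain ⟨a, ha, b, hb, hab⟩ := (mem_sup_iff hc).1 hv
  have hγN : γ ∈ h.stb P hPS := by
    refine ⟨autInducedBy_le_autGroup F hPS (conj_mem_autInducedBy hvS hγ), fun x hx => ?_,
      h.cg_of ha hb.1 (hab ▸ hγ'), ?_⟩
    · rw [hγ' x hx]
      convert Subgroup.mul_mem _ (h.nz.inv (hPS hx) (hV hv)) (Subgroup.inv_mem _ (hV hv)) using 1
      group
    · rw [sup_comm]
      exact h.symm.cg_of hb ha.1 (hc a ha b hb ▸ hab ▸ hγ')
  exact hgP (P.mul_mem hp (hD.mem_of_normalized hα hαD (N := h.stb P hPS) (fun _ k => k.1) (h.stb_pg hS hPS) hvS hγ hγN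
    (h.stb_conj hPS hα hγN)))

theorem hyp_le [Finite S] (h : Sp F T R) (hS : IsPGroup 2 S) (hF : F.IsSaturated 2)
    (hH : F.hyperfocalSubgroup 2 ≤ T ⊔ R) {M : Subgroup Ω} (hM : Nz S M)
    (h1 : ∀ P f, Od F P f → ∀ x ∈ P, x ∈ T ∨ x ∈ R → x⁻¹ * f x ∈ M) : F.hyperfocalSubgroup 2 ≤ M :=
  hyp_le_of_ess hS hF hM fun P f hP hf _ hx => hf.two hS (fun _ hy => hH (hf.mem_hyp hy)) (fun y hy k => by
    obtain ⟨t, ht, r, hr, rfl⟩ := (mem_sup_iff h.comm).1 k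
    have h2 := h.split hS hF hP ht hr hy
    have h3 : r ∈ P := (P.mul_mem_cancel_left h2).1 hy
    rw [hf.1.mul h2 h3]
    convert M.mul_mem (hM.inv (h.leR hr) (h1 P f hf t h2 (Or.inl ht))) (h1 P f hf r h3 (Or.inr hr)) using 1
    group) hx

end Sp

theorem nz_hyp [Finite S] (hS : IsPGroup 2 S) (hF : F.IsSaturated 2) : Nz S (F.hyperfocalSubgroup 2) :=
  have : Fact (Nat.Prime 2) := ⟨Nat.prime_two⟩
  nz_of_sc (S5124.result 2 hS F hF)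

/-- a nontrivial normal subgroup of a finite `2`-group contains a nontrivial central element -/
theorem exists_cen [Finite S] (hS : IsPGroup 2 S) {T : Subgroup Ω} (hT : T ≤ S) (hn : Nz S T) (hne : T ≠ ⊥) :
    ∃ z ∈ T, z ≠ 1 ∧ ∀ x ∈ S, x * z = z * x := by
  have : Fact (Nat.Prime 2) := ⟨Nat.prime_two⟩
  have hN : (T.subgroupOf S).Normal := ⟨fun n k g => hn g g.2 n k⟩
  have h1 : T.subgroupOf S ≠ ⊥ := fun k => hne (by
    rw [Subgroup.subgroupOf_eq_bot, disjoint_iff, inf_eq_left.2 hT] at k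
    exact k)
  have : Nontrivial (T.subgroupOf S) := (Subgroup.nontrivial_iff_ne_bot _).2 h1
  obtain ⟨n, hn0, hn1⟩ := (hS.to_subgroup (T.subgroupOf S)).nontrivial_iff_card.1 inferInstance
  obtain ⟨z, hz, h2⟩ := (hS.of_equiv (ConjAct.toConjAct (G := S))).exists_fixed_point_of_prime_dvd_card_of_fixed_point
    (T.subgroupOf S) (hn1 ▸ dvd_pow_self 2 hn0.ne') (a := 1) (fun g => smul_one g)
  refine ⟨(z : S), z.2, fun k => h2 (Subtype.ext (Subtype.ext k.symm)), fun x hx => ?_⟩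
  have h3 := congrArg (fun y : T.subgroupOf S => ((y : S) : Ω)) (hz (ConjAct.toConjAct ⟨x, hx⟩))
  exact mul_inv_eq_iff_eq_mul.1 h3

theorem Sp.inf_ne [Finite S] {T R : Subgroup Ω} (h : Sp F T R) (hS : IsPGroup 2 S) (hF : F.IsSaturated 2) (hc : F.core = ⊥)
    (hT : T ≠ ⊥) (hH : F.hyperfocalSubgroup 2 ≤ (F.hyperfocalSubgroup 2 ⊓ T) ⊔ (F.hyperfocalSubgroup 2 ⊓ R)) :
    F.hyperfocalSubgroup 2 ⊓ T ≠ ⊥ := fun h0 => by
  have h1 : ∀ {z : Ω}, z⁻¹ * z = 1 := inv_mul_cancel _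
  by_cases hn : Nz S T
  · obtain ⟨z, hz, h2, h3⟩ := exists_cen hS h.leT hn hT
    refine h2 (eq_one_of_fix hS hF hc (h.leT hz) h3 fun P f hf hP => ?_)
    have h4 : z⁻¹ * f z ∈ F.hyperfocalSubgroup 2 ⊓ T := ⟨hf.mem_hyp hP, T.mul_mem (T.inv_mem hz) (h.odd hf hP hz)⟩
    rw [h0, Subgroup.mem_bot, inv_mul_eq_one] at h4
    exact h4.symm
  · have h2 : ∃ s ∈ S, ∀ x ∈ R, s * x * s⁻¹ ∈ T := by
      by_contra k
      exact hn fun s hs => ((h.cj hs).resolve_right fun k' => k ⟨s, hs, k'.2⟩).1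
    obtain ⟨s, hs, h2⟩ := h2
    have h3 : F.hyperfocalSubgroup 2 ⊓ R = ⊥ := le_bot_iff.1 fun x hx => by
      have h4 : s * x * s⁻¹ ∈ F.hyperfocalSubgroup 2 ⊓ T := ⟨nz_hyp hS hF s hs x hx.1, h2 x hx.2⟩
      rwa [h0, Subgroup.mem_bot, mul_inv_eq_one, mul_eq_left] at h4
    rw [h0, h3, sup_bot_eq] at hH
    obtain ⟨z, hz, h4, h5⟩ := exists_cen hS le_rfl (nz_self S) fun k => hT (le_bot_iff.1 (k ▸ h.leT))
    refine h4 (eq_one_of_fix hS hF hc hz h5 fun P f hf hP => ?_)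
    have h6 := hH (hf.mem_hyp hP)
    rw [Subgroup.mem_bot, inv_mul_eq_one] at h6
    exact h6.symm

end gen

section top

variable {A : Type} [Group A] {F : Sys A} {T R : Subgroup A}

/-- the closed form of `decP` -/
def decQ (T R P : Subgroup A) (f : A → A) : Prop :=
  ∃ s : A, ∀ x ∈ P, x⁻¹ * (s⁻¹ * f x * s) ∈ T ⊔ R ∧ (x ∈ T ↔ s⁻¹ * f x * s ∈ T) ∧ (x ∈ R ↔ s⁻¹ * f x * s ∈ R)

theorem decQ.decP {P : Subgroup A} {f : A → A} (h : decQ T R P f) : decP T R P f := by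
  obtain ⟨s, h⟩ := h
  exact ⟨s, fun x hx => ⟨(h x hx).1, (h x hx).2.1.1, (h x hx).2.2.1⟩⟩

theorem pair_nz (h : Pair T R) : Nz ⊤ (T ⊔ R) := fun s _ => by
  rcases h.cj s with k | k
  · exact conj_sup (fun m hm => Subgroup.mem_sup_left (k.1 m hm)) fun m hm => Subgroup.mem_sup_right (k.2 m hm)
  · exact conj_sup (fun m hm => Subgroup.mem_sup_right (k.1 m hm)) fun m hm => Subgroup.mem_sup_left (k.2 m hm)

theorem pair_iff (h : Pair T R) (s : A) :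
    (∀ x, (x ∈ T ↔ s * x * s⁻¹ ∈ T) ∧ (x ∈ R ↔ s * x * s⁻¹ ∈ R)) ∨
      ∀ x, (x ∈ T ↔ s * x * s⁻¹ ∈ R) ∧ (x ∈ R ↔ s * x * s⁻¹ ∈ T) := by
  have h1 : ∀ x, s⁻¹ * (s * x * s⁻¹) * s⁻¹⁻¹ = x := fun x => by group
  have h2 : ¬ T ≤ R := fun k => h.neT (by rw [← h.inf, inf_eq_left.2 k])
  rcases h.cj s with k | k <;> rcases h.cj s⁻¹ with l | l
  · exact Or.inl fun x => ⟨⟨k.1 x, fun m => h1 x ▸ l.1 _ m⟩, k.2 x, fun m => h1 x ▸ l.2 _ m⟩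
  · exact absurd (fun x hx => h1 x ▸ l.1 _ (k.1 x hx)) h2
  · exact absurd (fun x hx => h1 x ▸ l.2 _ (k.1 x hx)) h2
  · exact Or.inr fun x => ⟨⟨k.1 x, fun m => h1 x ▸ l.2 _ m⟩, k.2 x, fun m => h1 x ▸ l.1 _ m⟩

theorem closed_decQ (F : Sys A) (h : Pair T R) : Closed F (decQ T R) where
  congr _ _ _ _ h1 he := by
    obtain ⟨s, h1⟩ := h1
    exact ⟨s, fun x hx => by rw [he x hx]; exact h1 x hx⟩
  comp P Q f g _ _ h1 h2 h3 := by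
    obtain ⟨s, h1⟩ := h1
    obtain ⟨t, h2⟩ := h2
    refine ⟨t * s, fun x hx => ?_⟩
    obtain ⟨a1, a2, a3⟩ := h1 x hx
    obtain ⟨b1, b2, b3⟩ := h2 _ (h3 x hx)
    have e1 : (t * s)⁻¹ * g (f x) * (t * s) = s⁻¹ * (t⁻¹ * g (f x) * t) * s⁻¹⁻¹ := by group
    rw [← inv_inv s] at a2 a3
    rw [inv_inv s⁻¹] at a2 a3
    refine ⟨?_, ?_⟩
    · convert Subgroup.mul_mem _ a1 ((pair_nz h).inv (Subgroup.mem_top s) b1) using 1
      group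
    · rw [e1]
      rcases pair_iff h s⁻¹ with k | k
      · exact ⟨a2.trans ((k _).1.symm.trans (b2.trans (k _).1)), a3.trans ((k _).2.symm.trans (b3.trans (k _).2))⟩
      · exact ⟨a2.trans ((k _).2.symm.trans (b3.trans (k _).2)), a3.trans ((k _).1.symm.trans (b2.trans (k _).1))⟩
  inv P Q f g _ h1 _ he _ := by
    obtain ⟨s, h1⟩ := h1
    refine ⟨s⁻¹, fun y hy => ?_⟩
    obtain ⟨x, hx, rfl, h2⟩ := he y hy
    obtain ⟨a1, a2, a3⟩ := h1 x hx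
    have e1 : f x = s * (s⁻¹ * f x * s) * s⁻¹ := by group
    rw [h2, inv_inv]
    refine ⟨?_, ?_⟩
    · convert pair_nz h s trivial _ (Subgroup.inv_mem _ a1) using 1
      group
    · rw [e1]
      rcases pair_iff h s with k | k
      · exact ⟨(k _).1.symm.trans (a2.symm.trans (k _).1), (k _).2.symm.trans (a3.symm.trans (k _).2)⟩
      · exact ⟨(k _).2.symm.trans (a3.symm.trans (k _).2), (k _).1.symm.trans (a2.symm.trans (k _).1)⟩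
  conj P _ s _ := ⟨s, fun x _ => by
    rw [show s⁻¹ * (s * x * s⁻¹) * s = x by group, inv_mul_cancel]
    exact ⟨Subgroup.one_mem _, Iff.rfl, Iff.rfl⟩⟩

/-- for an automorphism of `P` one direction is enough -/
theorem decQ_of_aut [Finite A] {P : Subgroup A} {f : A → A} (hf : Mp F P f) (hP : ∀ x ∈ P, f x ∈ P)
    (h1 : ∀ x ∈ P, x⁻¹ * f x ∈ T ⊔ R) (h2 : ∀ x ∈ P, x ∈ T → f x ∈ T) (h3 : ∀ x ∈ P, x ∈ R → f x ∈ R) : decQ T R P f := by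
  have h4 : ∀ W : Subgroup A, (∀ x ∈ P, x ∈ W → f x ∈ W) → ∀ x ∈ P, f x ∈ W → x ∈ W := fun W k x hx m => by
    obtain ⟨y, hy, h5⟩ := (hf.res (inf_le_left : P ⊓ W ≤ P)).surj (fun y hy => ⟨hP y hy.1, k y hy.1 hy.2⟩) ⟨hP x hx, m⟩
    rw [← hf.inj hy.1 hx h5]
    exact hy.2
  refine ⟨1, fun x hx => ?_⟩
  rw [inv_one, one_mul, mul_one]
  exact ⟨h1 x hx, ⟨h2 x hx, h4 T h2 x hx⟩, h3 x hx, h4 R h3 x hx⟩

theorem sp_of (h : Pair T R) (hd : ∀ P f, Mp F P f → decP T R P f) : Sp F T R := by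
  have e1 : ∀ s y : A, y = s * (s⁻¹ * y * s) * s⁻¹ := fun s y => by group
  refine ⟨le_top, le_top, h.inf, h.comm, fun P f hf x hx k => ?_, fun P f hf => ?_⟩
  · obtain ⟨s, h1⟩ := hd P f hf
    rw [e1 s (f x)]
    exact pair_nz h s trivial _ ((Subgroup.mul_mem_cancel_left _ (Subgroup.inv_mem _ k)).1 (h1 x hx).1)
  · obtain ⟨s, h1⟩ := hd P f hf
    rcases h.cj s with k | k
    · exact Or.inl fun x hx => ⟨fun m => e1 s (f x) ▸ k.1 _ ((h1 x hx).2.1 m), fun m => e1 s (f x) ▸ k.2 _ ((h1 x hx).2.2 m)⟩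
    · exact Or.inr fun x hx => ⟨fun m => e1 s (f x) ▸ k.1 _ ((h1 x hx).2.1 m), fun m => e1 s (f x) ▸ k.2 _ ((h1 x hx).2.2 m)⟩

/-- **The second half of `BoxD1`.** -/
theorem dec_of [Finite A] (hA : IsPGroup 2 A) (h0 : Hy0 F) (h : Pair T R) (hd : ∀ P f, Mp F P f → decP T R P f) : Dec F := by
  have hS : IsPGroup 2 (⊤ : Subgroup A) := hA.to_subgroup ⊤
  have h1 := sp_of h hd
  have h2 : hyp F ≤ T ⊔ R := hyp_le fun P f hf x hx => by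
    obtain ⟨s, h2⟩ := hd P f hf.1
    obtain ⟨k, hk, h3⟩ := hf.2.2
    exact Cg.odd hS le_rfl h1.nz ⟨s, trivial, fun y hy => (h2 y hy).1⟩ hf.2.1 hk h3 hx
  have h3 := nz_hyp hS h0.sat
  have h4 : hyp F ≤ (hyp F ⊓ T) ⊔ (hyp F ⊓ R) := h1.hyp_le hS h0.sat h2 (fun s hs => by
    rcases h.cj s with k | k
    · exact conj_sup (fun m hm => Subgroup.mem_sup_left ⟨h3 s hs m hm.1, k.1 m hm.2⟩)
        fun m hm => Subgroup.mem_sup_right ⟨h3 s hs m hm.1, k.2 m hm.2⟩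
    · exact conj_sup (fun m hm => Subgroup.mem_sup_right ⟨h3 s hs m hm.1, k.1 m hm.2⟩)
        fun m hm => Subgroup.mem_sup_left ⟨h3 s hs m hm.1, k.2 m hm.2⟩) fun P f hf x hx k =>
    k.elim (fun k => Subgroup.mem_sup_left ⟨hf.mem_hyp hx, T.mul_mem (T.inv_mem k) (h1.odd hf hx k)⟩)
      fun k => Subgroup.mem_sup_right ⟨hf.mem_hyp hx, R.mul_mem (R.inv_mem k) (h1.symm.odd hf hx k)⟩
  have h5 : ∀ P f, Od F P f → ∀ x ∈ P, x ∈ hyp F → f x ∈ hyp F := fun P f hf x hx k =>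
    (Subgroup.mul_mem_cancel_left _ (Subgroup.inv_mem _ k)).1 (hf.mem_hyp hx)
  refine ⟨hyp F ⊓ T, hyp F ⊓ R, h1.inf_ne hS h0.sat h0.core h.neT h4,
    h1.symm.inf_ne hS h0.sat h0.core h.neR (sup_comm (hyp F ⊓ T) _ ▸ h4), ?_,
    le_antisymm (sup_le inf_le_left inf_le_left) h4, fun x hx y hy => h.comm x hx.2 y hy.2, fun P f hf x hx =>
    ⟨fun k => ⟨h5 P f hf x hx k.1, h1.odd hf hx k.2⟩, fun k => ⟨h5 P f hf x hx k.1, h1.symm.odd hf hx k.2⟩⟩⟩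
  exact le_bot_iff.1 fun x hx => Subgroup.mem_bot.2 (h1.one hx.1.2 hx.2.2)

end top

end Cfsg.Agent.FS.N.D
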