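import Cfsg.Agent.FS.N.D.Sub
import Cfsg.Agent.FS.Th.Elem
import Cfsg.Agent.S5130
import Cfsg.Agent.S5128
import Cfsg.Agent.S5199
import Cfsg.Agent.S3116
import Cfsg.Agent.S4189

/-!
# Strongly closed direct factors (helper7, project FS)

`exists_fac`: a strongly closed direct factor of a system with (H) carries a system with (H); `aut_two`: the automorphism
group of such a group of order less than `32` is a `2`-group; `le_of_sc`: a criterion for a strongly closed subgroup to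
contain the hyperfocal subgroup.
-/

set_option autoImplicit false

namespace Cfsg.Agent.FS.N.D

open Cfsg Cfsg.FusionSystem Cfsg.Agent.H802 Cfsg.Agent.H752 Cfsg.Agent.FS.Th Cfsg.Agent.S5130
open scoped commutatorElement

universe u

variable {Ω : Type u} [Group Ω] {S : Subgroup Ω} {F : FusionSystem S} {T R : Subgroup Ω}

theorem sp_of_set (h : Setting F T R) : Sp F T R :=
  ⟨h.sA.1, h.sB.1, h.inf, h.comm, fun _ _ hf _ hx _ => h.sup.symm ▸ hf.mem hx, fun _ _ hf => Or.inl fun _ hx =>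
    ⟨mp_mem_of_stronglyClosed h.sA hf hx, mp_mem_of_stronglyClosed h.sB hf hx⟩⟩

theorem le_of_le_sup {K : Subgroup Ω} (hi : T ⊓ R = ⊥) (hc : ∀ x ∈ T, ∀ y ∈ R, x * y = y * x) (hK : K ≤ T)
    (h : T ≤ K ⊔ R) : T ≤ K := fun x hx => by
  obtain ⟨k, hk, r, hr, rfl⟩ := (mem_sup_iff fun a ha => hc a (hK ha)).1 (h hx)
  have h1 : r ∈ T ⊓ R := ⟨(T.mul_mem_cancel_left (hK hk)).1 hx, hr⟩
  rw [hi, Subgroup.mem_bot] at h1
  rw [h1, mul_one]
  exact hk

theorem exists_fac [Finite S] (hS : IsPGroup 2 S) (hF : Hyp F) (h : Setting F T R) : ∃ E : FusionSystem T, Hyp E := by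
  have : Fact (Nat.Prime 2) := ⟨Nat.prime_two⟩
  have := finite_of_le h.sA.1
  have hT : IsPGroup 2 T := hS.to_le h.sA.1
  have h1 : ∀ P : Subgroup Ω, P ≤ T → (S5199.restrictTo F h.sA.1).Hom P = F.Hom P := fun P hP =>
    Set.ext fun φ => ⟨fun k => k.1, fun k => ⟨k, hP, h.sA.2 P hP φ k⟩⟩
  generalize S5199.restrictTo F h.sA.1 = E at h1
  have h2 := R_saturated h hS hF.sat h1
  have h3 : E.hyperfocalSubgroup 2 ≤ T := (S5124.result 2 hT E h2).1
  refine ⟨E, h2, ?_, le_antisymm h3 (le_of_le_sup h.inf h.comm h3 (h.sA.1.trans (hF.hyp.symm.le.trans ?_)))⟩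
  · by_contra k
    obtain ⟨Q, k1, k2, k3⟩ := (S5089.result 2 hT E h2).1 k
    exact k1 (not_comm_of_sc hS hF.sat hF.core (stronglyClosed_of_mp (k3.1.trans h.sA.1) fun P f hf hP x hx =>
      mp_mem_of_stronglyClosed k3 ((mp_R h1).2 ⟨hP.trans k3.1, hf⟩) hx (hP hx))
      fun x hx y hy => congrArg Subtype.val (k2.1.1 ⟨x, hx⟩ ⟨y, hy⟩))
  · refine (sp_of_set h).hyp_le hS hF.sat (hF.hyp.le.trans h.sup.symm.le) (Nz.sup (fun s hs m hm => ?_) (nz_of_sc h.sB))
      fun P f hf x hx k => k.elim (fun k => Subgroup.mem_sup_left (Od.mem_hyp (P := P ⊓ T) ?_ ⟨hx, k⟩)) fun k =>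
        Subgroup.mem_sup_right (R.mul_mem (R.inv_mem k) (mp_mem_of_stronglyClosed h.sB hf.1 hx k))
    · obtain ⟨t, ht, r, hr, rfl⟩ := (mem_sup_iff h.comm).1 (h.sup.symm.le hs)
      rw [mul_assoc t, ← h.comm m (h3 hm) r hr, mul_inv_rev, ← mul_assoc, ← mul_assoc, mul_inv_cancel_right]
      exact nz_hyp hT h2 t ht m hm
    · have h4 := hf.res (R := P ⊓ T) inf_le_left fun y hy => ⟨hf.2.1 y hy.1, mp_mem_of_stronglyClosed h.sA hf.1 hy.1 hy.2⟩
      exact ⟨(mp_R h1).2 ⟨inf_le_right, h4.1⟩, h4.2⟩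

theorem comm_of_index {G : Type u} [Group G] [Finite G] (hG : IsPGroup 2 G) (h : (commutator G).index ∣ 2) (x y : G) :
    x * y = y * x := by
  have : Fact (Nat.Prime 2) := ⟨Nat.prime_two⟩
  obtain ⟨a, ha⟩ := Subgroup.index_dvd_two_iff.1 h
  have h1 := Lib.FrattiniPGroup.commutator_le_frattini hG
  have h2 : Subgroup.zpowers a = ⊤ := frattini_nongenerating (eq_top_iff.2 fun b _ => (ha b).elim (fun k =>
    (Subgroup.mul_mem_cancel_right _ (Subgroup.mem_sup_left (Subgroup.mem_zpowers a))).1 (Subgroup.mem_sup_right (h1 k)))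
    fun k => Subgroup.mem_sup_right (h1 k))
  obtain ⟨m, rfl⟩ : x ∈ Subgroup.zpowers a := h2 ▸ trivial
  obtain ⟨n, rfl⟩ : y ∈ Subgroup.zpowers a := h2 ▸ trivial
  exact (Commute.zpow_zpow_self a m n).eq

theorem aut_two [Finite S] (hS : IsPGroup 2 S) (hF : Hyp F) (hne : S ≠ ⊥) (hc : Nat.card S < 32) :
    IsPGroup 2 (MulAut S) := by
  have : Fact (Nat.Prime 2) := ⟨Nat.prime_two⟩
  by_cases hZ : (Subgroup.center S).index ≤ 2 ^ 2
  · exact S3116.result hS (Or.inl ⟨4, le_rfl, (S5265.result 2 hS F hF.sat hne hF.core hF.hyp hZ).2.2.2 rfl⟩)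
  by_contra ha
  have : Nontrivial S := (Subgroup.nontrivial_iff_ne_bot _).2 hne
  have := hS.center_nontrivial
  obtain ⟨i, h1⟩ := hS.index (Subgroup.center S)
  have h2 : 1 < Nat.card (Subgroup.center S) := Finite.one_lt_card
  have h3 := (Subgroup.center S).card_mul_index
  have h4 : 3 ≤ i := by
    by_contra k
    exact hZ (h1 ▸ Nat.pow_le_pow_right two_pos (by omega))
  have h5 : 8 ≤ (Subgroup.center S).index := h1 ▸ (Nat.pow_le_pow_right two_pos h4 : 2 ^ 3 ≤ _)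
  obtain ⟨j, h6⟩ := (hS.to_subgroup (Subgroup.center S)).exists_card_eq
  have h7 : Nat.card (Subgroup.center S) = 2 := by
    have h8 : Nat.card (Subgroup.center S) < 4 := by nlinarith
    rw [h6] at h2 h8 ⊢
    have h9 : j < 2 := (Nat.pow_lt_pow_iff_right one_lt_two).1 h8
    interval_cases j
    · exact absurd h2 (by norm_num)
    · rfl
  have hna : ¬ ∀ x y : S, x * y = y * x := fun k => hZ (by
    rw [(eq_top_iff (a := Subgroup.center S)).2 fun x _ => Subgroup.mem_center_iff.2 fun g => k g x, Subgroup.index_top]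
    norm_num)
  obtain ⟨z, hz, hz'⟩ := (Nat.card_eq_two_iff' (1 : Subgroup.center S)).1 h7
  have h8 : ∀ x ∈ Subgroup.center S, x = 1 ∨ x = z := fun x hx => or_iff_not_imp_left.2 fun k =>
    congrArg Subtype.val (hz' ⟨x, hx⟩ fun m => k (congrArg Subtype.val m))
  have zc : ∀ y : S, (z : S) * y = y * z := fun y => (Subgroup.mem_center_iff.1 z.2 y).symm
  have z2 : (z : S) * z = 1 := (h8 _ (Subgroup.mul_mem _ z.2 z.2)).resolve_right fun k =>
    hz (Subtype.ext (mul_eq_left.1 k))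
  obtain ⟨l, h9⟩ := hS.index (commutator S)
  have h10 : 2 ≤ l := by
    by_contra k
    exact hna (comm_of_index hS (h9 ▸ pow_dvd_pow 2 (by omega : l ≤ 1)))
  have h11 : 16 ≤ Nat.card S := by
    rw [h7] at h3
    omega
  rcases h10.eq_or_lt with rfl | h12
  · obtain ⟨e⟩ := S4189.result hS (fun k => hna k.1.1) h9 ha
    have h13 := Nat.card_congr e.toEquiv
    rw [Nat.card_eq_fintype_card (α := QuaternionGroup 2), QuaternionGroup.card] at h13
    omega
  have h13 : 8 ≤ (commutator S).index := h9 ▸ (Nat.pow_le_pow_right two_pos h12 : 2 ^ 3 ≤ _)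
  have h14 := (commutator S).card_mul_index
  obtain ⟨w, hw, w1, wc⟩ := exists_cen (hS.to_subgroup ⊤) (le_top : commutator S ≤ ⊤)
    (fun s _ m k => (inferInstance : (commutator S).Normal).conj_mem m k s) fun k => hna fun x y => by
      have h15 : ⁅x, y⁆ ∈ commutator S := Subgroup.commutator_mem_commutator (Subgroup.mem_top _) (Subgroup.mem_top _)
      rwa [k, Subgroup.mem_bot, commutatorElement_eq_one_iff_mul_comm] at h15
  have h15 : Subgroup.center S ≤ commutator S := fun x hx => by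
    rcases h8 x hx with k | k
    · exact k ▸ Subgroup.one_mem _
    · rw [k, ← (h8 w (Subgroup.mem_center_iff.2 fun g => wc g trivial)).resolve_left w1]
      exact hw
  have h16 : Subgroup.center S = commutator S := by
    obtain ⟨m, h17⟩ := (hS.to_subgroup (commutator S)).exists_card_eq
    refine Subgroup.eq_of_le_of_card_ge h15 ?_
    have h18 : Nat.card (commutator S) < 4 := by nlinarith
    rw [h17] at h18 ⊢
    rw [h7]
    exact Nat.pow_le_pow_right two_pos (Nat.lt_succ_iff.1 ((Nat.pow_lt_pow_iff_right one_lt_two).1 h18 : m < 2))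
  obtain ⟨F', h17, -⟩ := exists_transport F (MulEquiv.refl S)
  have h18 := (h17 hF).card_of_sq hS z2 (fun k => hz (Subtype.ext k)) zc fun g => h8 _ (Subgroup.mem_center_iff.2 fun y => by
    have h19 : ⁅g, y⁆ ∈ Subgroup.center S := h16 ▸ Subgroup.commutator_mem_commutator (Subgroup.mem_top _) (Subgroup.mem_top _)
    have h20 : g * y = ⁅g, y⁆ * y * g := by rw [commutatorElement_def]; group
    have h21 : ⁅g, y⁆ * ⁅g, y⁆ = 1 := by
      rcases h8 _ h19 with k | k <;> rw [k]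
      exacts [mul_one _, z2]
    have h22 := Subgroup.mem_center_iff.1 h19 g
    generalize ⁅g, y⁆ = c at h20 h21 h22
    rw [mul_assoc g, h20, ← mul_assoc g, ← mul_assoc g, h22, mul_assoc c, h20, ← mul_assoc, ← mul_assoc, ← mul_assoc, h21,
      one_mul])
  omega

/-- odd maps are trivial on a group whose automorphism group is a `2`-group -/
theorem fix_of_aut (h : IsPGroup 2 (MulAut T)) {f : Ω → Ω} (h1 : ∀ x ∈ T, ∀ y ∈ T, f (x * y) = f x * f y)
    (h2 : ∀ x ∈ T, f x ∈ T) {k : ℕ} (hk : Odd k) (h3 : ∀ x ∈ T, f^[k] x = x) {x : Ω} (hx : x ∈ T) : f x = x := by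
  obtain ⟨j, rfl⟩ := hk
  let α : MulAut T :=
    { toFun := fun y => ⟨f y, h2 y y.2⟩
      invFun := fun y => ⟨f^[2 * j] y, iter_mem h2 _ y.2⟩
      left_inv := fun y => Subtype.ext (h3 y y.2)
      right_inv := fun y => Subtype.ext ((Function.iterate_succ_apply' f _ _).symm.trans (h3 y y.2))
      map_mul' := fun y z => Subtype.ext (h1 y y.2 z z.2) }
  have h4 : ∀ y ∈ T, fn α y = f y := fun y hy => fn_apply α hy
  have h5 : α ^ (2 * j + 1) = 1 := MulEquiv.ext fun y => Subtype.ext (by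
    rw [← fn_apply _ y.2, ← fn_pow α _ y.2, iter_congr h2 h4 _ y.2]
    exact h3 y y.2)
  obtain ⟨m, hm⟩ := exists_pow_eq (h.to_subgroup ⊤) (Subgroup.mem_top α) ⟨j, rfl⟩
  rw [h5, one_pow] at hm
  rw [← h4 x hx, ← hm, fn_one hx]

/-- a strongly closed subgroup with abelian quotient on which the odd automorphisms of `S` act trivially -/
theorem le_of_sc [Finite S] (hS : IsPGroup 2 S) (hF : F.IsSaturated 2) {M : Subgroup Ω} (hM : F.StronglyClosed M)
    (h1 : ∀ x ∈ S, ∀ y ∈ S, x * y * x⁻¹ * y⁻¹ ∈ M) (h2 : ∀ f, Od F S f → focP M S f) : F.hyperfocalSubgroup 2 ≤ M := by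
  have : Fact (Nat.Prime 2) := ⟨Nat.prime_two⟩
  refine hyp_le fun P₀ f₀ hf₀ => ?_
  by_contra hn
  rcases first_failure' hS hF (closed_focP F M h1) hf₀.1 hn with ⟨α, hα, r, k, hr, hr2, h3, h4, -⟩ | ⟨-, P, H, hf⟩
  · exact h4 (h2 _ (od_fn le_rfl hα ((hr.odd_of_ne_two hr2).pow) (by rw [← h3, pow_orderOf_eq_one])))
  have hP : P ≤ S := hf.ess.1.1
  have hne := ne_of_isEssential hS hF hf.ess
  obtain ⟨g, ⟨hg1, hg2⟩, hgP⟩ := SetLike.exists_of_lt (lt_inf_normalizer hS hP le_rfl hne)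
  obtain ⟨γ, hγ⟩ := exists_conjAut hg2
  have h3 := (hf.mem γ).1 ((hf.ctx hS hF).autS_le hne (conj_mem_autInducedBy hg1 hγ))
  refine hf.not_le fun α hα => (hf.ctx hS hF).mem_of_conj hα hg1 hgP hγ ((hf.mem _).2
    ⟨Subgroup.mul_mem _ (Subgroup.mul_mem _ hα h3.1) (Subgroup.inv_mem _ hα), fun x hx => ?_⟩)
  have h4 := fn_mem α⁻¹ hx
  have h5 := mp_mem_of_stronglyClosed hM (mp_fn hP hα) (P.mul_mem (P.inv_mem h4) (fn_mem γ h4)) (h3.2 _ h4)
  rwa [(mp_fn hP hα).mul (P.inv_mem h4) (fn_mem γ h4), (mp_fn hP hα).inv h4, fn_fn_inv α hx, ← fn_mul _ _ h4,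
    ← fn_mul _ _ hx] at h5

theorem eight_le [Finite S] (hS : IsPGroup 2 S) (hF : F.IsSaturated 2) (hc : F.core = ⊥) {W : Subgroup Ω}
    (hW : F.StronglyClosed W) (hne : W ≠ ⊥) : 8 ≤ Nat.card W := by
  have : Fact (Nat.Prime 2) := ⟨Nat.prime_two⟩
  have := finite_of_le hW.1
  have h1 : IsPGroup 2 W := hS.to_le hW.1
  by_contra h2
  refine hne (not_comm_of_sc hS hF hc hW fun x hx y hy => ?_)
  obtain ⟨n, h3⟩ := h1.exists_card_eq
  have h4 : n < 3 := (Nat.pow_lt_pow_iff_right one_lt_two).1 (by omega : 2 ^ n < 2 ^ 3)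
  refine congrArg Subtype.val (?_ : (⟨x, hx⟩ * ⟨y, hy⟩ : W) = ⟨y, hy⟩ * ⟨x, hx⟩)
  by_cases h5 : n = 2
  · exact IsPGroup.commutative_of_card_eq_prime_sq (h5 ▸ h3) _ _
  · exact comm_of_index h1 ((commutator W).index_dvd_card.trans (h3 ▸ pow_dvd_pow 2 (by omega : n ≤ 1))) _ _

end Cfsg.Agent.FS.N.D
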