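import Cfsg.Agent.FS.N.Defs
import Cfsg.Agent.S5089

/-!
# Odd maps of a fusion system (helper7, project FS)

`Od F P f`: `f` is an automorphism of odd order of `P` in `F`.  A closed property which holds for the odd maps on `S` and on
the essential subgroups holds for all maps (`odd_gen`).  `Cg C M Q f`: on `Q` the map `f` is, modulo `M`, a conjugation by an
element of `C`.
-/

set_option autoImplicit false

namespace Cfsg.Agent.FS.N.D

open Cfsg Cfsg.FusionSystem Cfsg.Agent.H802 Cfsg.Agent.H752 Cfsg.Agent.FS.Th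

universe u

variable {Ω : Type u} [Group Ω] {S : Subgroup Ω} {F : FusionSystem S}

/-- an automorphism of odd order of `P` in `F` -/
def Od (F : FusionSystem S) (P : Subgroup Ω) (f : Ω → Ω) : Prop :=
  Mp F P f ∧ (∀ x ∈ P, f x ∈ P) ∧ ∃ k, Odd k ∧ ∀ x ∈ P, f^[k] x = x

theorem fn_pow {P : Subgroup Ω} (α : MulAut P) (k : ℕ) {x : Ω} (hx : x ∈ P) : (fn α)^[k] x = fn (α ^ k) x := by
  induction k generalizing x with
  | zero => rw [pow_zero, fn_one hx]; rfl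
  | succ k ih => rw [Function.iterate_succ_apply, ih (fn_mem α hx), pow_succ, fn_mul _ _ hx]

theorem od_fn {P : Subgroup Ω} (hP : P ≤ S) {α : MulAut P} (hα : α ∈ F.autGroup P) {k : ℕ} (hk : Odd k)
    (h1 : α ^ k = 1) : Od F P (fn α) :=
  ⟨mp_fn hP hα, fun _ hx => fn_mem α hx, k, hk, fun x hx => by rw [fn_pow α k hx, h1, fn_one hx]⟩

theorem iter_mem {P : Subgroup Ω} {f : Ω → Ω} (h : ∀ x ∈ P, f x ∈ P) (j : ℕ) {x : Ω} (hx : x ∈ P) : f^[j] x ∈ P := by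
  induction j with
  | zero => exact hx
  | succ j ih => rw [Function.iterate_succ_apply']; exact h _ ih

theorem iter_congr {P : Subgroup Ω} {f g : Ω → Ω} (h : ∀ x ∈ P, f x ∈ P) (he : ∀ x ∈ P, g x = f x) (j : ℕ) {x : Ω}
    (hx : x ∈ P) : g^[j] x = f^[j] x := by
  induction j with
  | zero => rfl
  | succ j ih => rw [Function.iterate_succ_apply', Function.iterate_succ_apply', ih, he _ (iter_mem h j hx)]

theorem Od.exists_aut [Finite S] {P : Subgroup Ω} {f : Ω → Ω} (h : Od F P f) :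
    ∃ α ∈ F.autGroup P, Odd (orderOf α) ∧ ∀ x ∈ P, f x = fn α x := by
  obtain ⟨h1, h2, k, hk, h3⟩ := h
  have := finite_of_le h1.le
  obtain ⟨α, hα, h4⟩ := h1.exists_aut h2
  have h5 : ∀ x ∈ P, f x = fn α x := fun x hx => by rw [h4 x hx, fn_apply _ hx]
  refine ⟨α, hα, hk.of_dvd_nat (orderOf_dvd_of_pow_eq_one ?_), h5⟩
  ext x
  have h6 := h3 x x.2
  rw [iter_congr (fun y hy => fn_mem α hy) h5 k x.2, fn_pow α k x.2, fn_apply _ x.2] at h6
  exact h6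

theorem Od.res {P R : Subgroup Ω} {f : Ω → Ω} (h : Od F P f) (hR : R ≤ P) (h1 : ∀ x ∈ R, f x ∈ R) : Od F R f := by
  obtain ⟨h2, -, k, hk, h3⟩ := h
  exact ⟨h2.res hR, h1, k, hk, fun x hx => h3 x (hR hx)⟩

/-- an odd map which keeps `W` keeps its complement -/
theorem Od.iff {P W : Subgroup Ω} {f : Ω → Ω} (h : Od F P f) (h1 : ∀ x ∈ P, x ∈ W → f x ∈ W) {x : Ω} (hx : x ∈ P) :
    x ∈ W ↔ f x ∈ W := by
  obtain ⟨-, h2, k, ⟨j, rfl⟩, h3⟩ := h
  refine ⟨h1 x hx, fun h4 => ?_⟩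
  rw [← h3 x hx, Function.iterate_add_apply]
  exact (iter_mem (P := P ⊓ W) (fun y hy => ⟨h2 y hy.1, h1 y hy.1 hy.2⟩) _ ⟨h2 x hx, h4⟩).2

theorem Od.mem_hyp [Finite S] {P : Subgroup Ω} {f : Ω → Ω} (h : Od F P f) {x : Ω} (hx : x ∈ P) :
    x⁻¹ * f x ∈ F.hyperfocalSubgroup 2 := by
  obtain ⟨α, hα, h1, h2⟩ := h.exists_aut
  refine Subgroup.subset_closure ⟨P, ⟨α, hα⟩, ⟨x, hx⟩, h.1.le, Subgroup.subset_closure ?_, by rw [h2 x hx, fn_apply _ hx]⟩
  show Nat.Coprime (orderOf (⟨α, hα⟩ : F.autGroup P)) 2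
  rw [← Subgroup.orderOf_coe]
  exact Nat.coprime_two_right.2 h1

theorem hyp_le {M : Subgroup Ω} (h : ∀ P f, Od F P f → ∀ x ∈ P, x⁻¹ * f x ∈ M) : F.hyperfocalSubgroup 2 ≤ M := by
  unfold FusionSystem.hyperfocalSubgroup
  rw [Subgroup.closure_le]
  rintro _ ⟨P, α, x, hP, hα, rfl⟩
  revert x
  induction hα using Subgroup.closure_induction with
  | mem α hα =>
    intro x
    have h1 : Odd (orderOf (α : MulAut P)) := by
      rw [Subgroup.orderOf_coe]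
      exact Nat.coprime_two_right.1 hα
    have h2 := h P _ (od_fn hP α.2 h1 (pow_orderOf_eq_one _)) x x.2
    rwa [fn_apply _ x.2] at h2
  | one =>
    intro x
    show (x : Ω)⁻¹ * x ∈ M
    rw [inv_mul_cancel]
    exact M.one_mem
  | mul α β _ _ h1 h2 =>
    intro x
    have h3 := M.mul_mem (h2 x) (h1 ((β : MulAut P) x))
    rw [mul_assoc, mul_inv_cancel_left] at h3
    exact h3
  | inv α _ h1 =>
    intro x
    have h3 := M.inv_mem (h1 ((α : MulAut P)⁻¹ x))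
    rw [MulAut.apply_inv_self, mul_inv_rev, inv_inv] at h3
    exact h3

/-- a subgroup containing the odd elements and `Aut_S(P)` is everything -/
theorem aut_le [Finite S] (hS : IsPGroup 2 S) (hF : F.IsSaturated 2) {P : Subgroup Ω} (hP : F.IsFullyNormalized P)
    {H : Subgroup (MulAut P)} (h1 : autInducedBy S P ≤ H) (h2 : ∀ α ∈ F.autGroup P, Odd (orderOf α) → α ∈ H) :
    F.autGroup P ≤ H := by
  have : Fact (Nat.Prime 2) := ⟨Nat.prime_two⟩
  have := finite_aut hP.1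
  have h3 : (H.subgroupOf (F.autGroup P)).index = 1 := by
    by_contra hne
    obtain ⟨r, hr, hd⟩ := Nat.exists_prime_and_dvd hne
    have : Fact r.Prime := ⟨hr⟩
    have h4 : ∃ R : Sylow r (F.autGroup P), (R : Subgroup _) ≤ H.subgroupOf (F.autGroup P) := by
      by_cases h5 : r = 2
      · subst h5
        exact ⟨⟨(autInducedBy S P).subgroupOf (F.autGroup P),
          (isPGroup_autInducedBy hS P).comap_of_injective _ (Subgroup.subtype_injective _), fun {Q} hQ hle => by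
            refine le_antisymm (fun x hx => ?_) hle
            exact le_autInducedBy_of_isPGroup hS hF hP (B := Q.map (F.autGroup P).subtype)
              (Subgroup.map_subtype_le Q) (hQ.map _)
              (fun δ hδ => ⟨⟨δ, autInducedBy_le_autGroup F hP.1 hδ⟩, hle hδ, rfl⟩) ⟨x, hx, rfl⟩⟩, fun x hx => h1 hx⟩
      · obtain ⟨R⟩ : Nonempty (Sylow r (F.autGroup P)) := inferInstance
        refine ⟨R, fun x hx => h2 x x.2 ?_⟩
        obtain ⟨k, hk⟩ := R.isPGroup' ⟨x, hx⟩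
        have h6 : (x : MulAut P) ^ r ^ k = 1 := congrArg (fun y : (R : Subgroup (F.autGroup P)) => ((y : F.autGroup P) : MulAut P)) hk
        exact ((hr.odd_of_ne_two h5).pow).of_dvd_nat (orderOf_dvd_of_pow_eq_one h6)
    obtain ⟨R, hR⟩ := h4
    exact R.not_dvd_index (hd.trans (Subgroup.index_dvd_of_le hR))
  rw [Subgroup.index_eq_one, Subgroup.subgroupOf_eq_top] at h3
  exact h3

/-- **Generation by the odd maps.** -/
theorem odd_gen [Finite S] (hS : IsPGroup 2 S) (hF : F.IsSaturated 2) {M : Subgroup Ω → (Ω → Ω) → Prop}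
    (h : Closed F M) (ho : ∀ P f, (P = S ∨ F.IsEssential 2 P) → Od F P f → M P f) :
    ∀ P f, Mp F P f → M P f := by
  have : Fact (Nat.Prime 2) := ⟨Nat.prime_two⟩
  intro P₀ f₀ hf₀
  by_contra hM
  rcases first_failure' hS hF h hf₀ hM with ⟨α, hα, r, k, hr, hr2, h1, h2, -⟩ | ⟨-, P, H, hf⟩
  · exact h2 (ho S _ (Or.inl rfl) (od_fn le_rfl hα ((hr.odd_of_ne_two hr2).pow) (by rw [← h1, pow_orderOf_eq_one])))
  · refine hf.not_le (aut_le hS hF hf.ess.2.1 ((hf.ctx hS hF).autS_le (ne_of_isEssential hS hF hf.ess)) fun α hα h1 => ?_)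
    exact (hf.mem α).2 ⟨hα, ho P _ (Or.inr hf.ess) (od_fn hf.ess.1.1 hα h1 (pow_orderOf_eq_one _))⟩

/-! ### coprime action -/

theorem exists_pow_eq (hS : IsPGroup 2 S) {c : Ω} (hc : c ∈ S) {k : ℕ} (hk : Odd k) : ∃ m, (c ^ k) ^ m = c := by
  obtain ⟨n, hn⟩ := hS ⟨c, hc⟩
  have h1 : c ^ 2 ^ n = 1 := congrArg Subtype.val hn
  exact exists_pow_eq_self_of_coprime (Nat.Coprime.coprime_dvd_right (orderOf_dvd_of_pow_eq_one h1)
    (Nat.Coprime.pow_right n (Nat.coprime_two_right.2 hk)))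

/-- trivial on `P / Q` and on `Q / N` -/
theorem Od.two (hS : IsPGroup 2 S) {P Q N : Subgroup Ω} {f : Ω → Ω} (h : Od F P f) (h1 : ∀ x ∈ P, x⁻¹ * f x ∈ Q)
    (h2 : ∀ x ∈ P, x ∈ Q → x⁻¹ * f x ∈ N) {x : Ω} (hx : x ∈ P) : x⁻¹ * f x ∈ N := by
  obtain ⟨h3, h4, k, hk, h5⟩ := h
  have h6 : ∀ j, x⁻¹ * f^[j] x ∈ Q ∧ ((x⁻¹ * f x) ^ j)⁻¹ * (x⁻¹ * f^[j] x) ∈ N := fun j => by
    induction j with
    | zero =>
      simp only [Function.iterate_zero, id, inv_mul_cancel, pow_zero, inv_one, one_mul]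
      exact ⟨Q.one_mem, N.one_mem⟩
    | succ j ih =>
      have h7 := iter_mem h4 j hx
      have h8 : x⁻¹ * f^[j] x ∈ P := P.mul_mem (P.inv_mem hx) h7
      have h9 := N.mul_mem ih.2 (h2 _ h8 ih.1)
      rw [h3.mul (P.inv_mem hx) h7, h3.inv hx] at h9
      rw [Function.iterate_succ_apply']
      refine ⟨?_, ?_⟩
      · have h10 := Q.mul_mem ih.1 (h1 _ h7)
        rwa [mul_assoc, mul_inv_cancel_left] at h10
      · convert h9 using 1
        rw [pow_succ']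
        generalize (x⁻¹ * f x) ^ j = c
        group
  have h7 := (h6 k).2
  rw [h5 x hx, inv_mul_cancel, mul_one, N.inv_mem_iff] at h7
  obtain ⟨m, hm⟩ := exists_pow_eq hS (h3.le (P.mul_mem (P.inv_mem hx) (h4 x hx))) hk
  rw [← hm]
  exact N.pow_mem h7 m

/-- `C` normalizes `M` -/
def Nz (C M : Subgroup Ω) : Prop := ∀ s ∈ C, ∀ m ∈ M, s * m * s⁻¹ ∈ M

theorem Nz.inv {C M : Subgroup Ω} (h : Nz C M) {s m : Ω} (hs : s ∈ C) (hm : m ∈ M) : s⁻¹ * m * s ∈ M := by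
  have h1 := h _ (C.inv_mem hs) m hm
  rwa [inv_inv] at h1

theorem Nz.mono {C C' M : Subgroup Ω} (h : Nz C M) (h1 : C' ≤ C) : Nz C' M := fun s hs => h s (h1 hs)

theorem Nz.inf {C M N : Subgroup Ω} (h : Nz C M) (h' : Nz C N) : Nz C (M ⊓ N) :=
  fun s hs m hm => ⟨h s hs m hm.1, h' s hs m hm.2⟩

theorem conj_sup {s : Ω} {M N K : Subgroup Ω} (h : ∀ m ∈ M, s * m * s⁻¹ ∈ K) (h' : ∀ m ∈ N, s * m * s⁻¹ ∈ K) :
    ∀ m ∈ M ⊔ N, s * m * s⁻¹ ∈ K := fun _ hm =>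
  (sup_le (fun m hm => h m hm) (fun m hm => h' m hm) : M ⊔ N ≤ K.comap (MulAut.conj s).toMonoidHom) hm

theorem Nz.sup {C M N : Subgroup Ω} (h : Nz C M) (h' : Nz C N) : Nz C (M ⊔ N) := fun s hs =>
  conj_sup (fun m hm => (le_sup_left : M ≤ M ⊔ N) (h s hs m hm)) fun m hm => (le_sup_right : N ≤ M ⊔ N) (h' s hs m hm)

theorem nz_self (C : Subgroup Ω) : Nz C C := fun _ hs _ hm => C.mul_mem (C.mul_mem hs hm) (C.inv_mem hs)

theorem nz_of_sc {T : Subgroup Ω} (h : F.StronglyClosed T) : Nz S T := fun _ hs _ hm =>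
  mp_mem_of_stronglyClosed h (mp_conj F h.1 hs) hm hm

/-- on `Q` the map `f` is a conjugation by an element of `C` modulo `M` -/
def Cg (C M Q : Subgroup Ω) (f : Ω → Ω) : Prop := ∃ s ∈ C, ∀ x ∈ Q, x⁻¹ * (s⁻¹ * f x * s) ∈ M

namespace Cg

variable {C M Q Q' : Subgroup Ω} {f g : Ω → Ω}

theorem congr (h : Cg C M Q f) (he : ∀ x ∈ Q, g x = f x) : Cg C M Q g := by
  obtain ⟨s, hs, h1⟩ := h
  exact ⟨s, hs, fun x hx => by rw [he x hx]; exact h1 x hx⟩

theorem comp (hM : Nz C M) (h : Cg C M Q f) (h' : Cg C M Q' g) (hQ : ∀ x ∈ Q, f x ∈ Q') :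
    Cg C M Q fun x => g (f x) := by
  obtain ⟨s, hs, h1⟩ := h
  obtain ⟨t, ht, h2⟩ := h'
  refine ⟨t * s, C.mul_mem ht hs, fun x hx => ?_⟩
  convert M.mul_mem (h1 x hx) (hM.inv hs (h2 _ (hQ x hx))) using 1
  group

theorem inv (hM : Nz C M) (h : Cg C M Q f) (he : ∀ y ∈ Q', ∃ x ∈ Q, f x = y ∧ g y = x) : Cg C M Q' g := by
  obtain ⟨s, hs, h1⟩ := h
  refine ⟨s⁻¹, C.inv_mem hs, fun y hy => ?_⟩
  obtain ⟨x, hx, rfl, h2⟩ := he y hy
  rw [h2]
  convert hM s hs _ (M.inv_mem (h1 x hx)) using 1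
  group

theorem conj {s : Ω} (hs : s ∈ C) : Cg C M Q fun x => s * x * s⁻¹ :=
  ⟨s, hs, fun x _ => by
    convert M.one_mem using 1
    group⟩

theorem of_triv (h : ∀ x ∈ Q, x⁻¹ * f x ∈ M) : Cg C M Q f :=
  ⟨1, C.one_mem, fun x hx => by
    rw [inv_one, one_mul, mul_one]
    exact h x hx⟩

/-- an odd map which is a conjugation modulo `M` is trivial modulo `M` -/
theorem odd (hS : IsPGroup 2 S) (hC : C ≤ S) (hM : Nz C M) (h : Cg C M Q f) (hQ : ∀ x ∈ Q, f x ∈ Q) {k : ℕ}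
    (hk : Odd k) (h1 : ∀ x ∈ Q, f^[k] x = x) {x : Ω} (hx : x ∈ Q) : x⁻¹ * f x ∈ M := by
  obtain ⟨s, hs, h2⟩ := h
  have h3 : ∀ j, x⁻¹ * ((s ^ j)⁻¹ * f^[j] x * s ^ j) ∈ M := fun j => by
    induction j with
    | zero =>
      convert M.one_mem using 1
      simp
    | succ j ih =>
      rw [Function.iterate_succ_apply']
      convert M.mul_mem ih (hM.inv (C.pow_mem hs j) (h2 _ (iter_mem hQ j hx))) using 1
      rw [pow_succ']
      group
  have h4 := h3 k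
  rw [h1 x hx] at h4
  have h5 : ∀ m, x⁻¹ * (((s ^ k) ^ m)⁻¹ * x * (s ^ k) ^ m) ∈ M := fun m => by
    induction m with
    | zero =>
      convert M.one_mem using 1
      simp
    | succ m ih =>
      convert M.mul_mem h4 (hM.inv (C.pow_mem hs k) ih) using 1
      rw [pow_succ]
      group
  obtain ⟨m, hm⟩ := exists_pow_eq hS (hC hs) hk
  have h6 := h5 m
  rw [hm] at h6
  convert M.mul_mem (hM s hs _ (M.inv_mem h6)) (hM s hs _ (h2 x hx)) using 1
  group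

end Cg

theorem closed_cg (F : FusionSystem S) {M : Subgroup Ω} (hM : Nz S M) : Closed F (Cg S M) where
  congr _ _ _ _ h he := h.congr he
  comp _ _ _ _ _ _ h1 h2 h3 := h1.comp hM h2 h3
  inv _ _ _ _ _ h _ he _ := h.inv hM he
  conj _ _ _ hs := Cg.conj hs

/-- the hyperfocal subgroup is generated on the essential subgroups -/
theorem hyp_le_of_ess [Finite S] (hS : IsPGroup 2 S) (hF : F.IsSaturated 2) {M : Subgroup Ω} (hM : Nz S M)
    (h : ∀ P f, (P = S ∨ F.IsEssential 2 P) → Od F P f → ∀ x ∈ P, x⁻¹ * f x ∈ M) : F.hyperfocalSubgroup 2 ≤ M :=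
  hyp_le fun P f hf x hx => by
    obtain ⟨k, hk, h1⟩ := hf.2.2
    exact (odd_gen hS hF (closed_cg F hM) (fun P f h2 h3 => Cg.of_triv (h P f h2 h3)) P f hf.1).odd hS le_rfl hM hf.2.1 hk h1 hx

/-- `f` keeps `W` and its complement -/
def Kp (W P : Subgroup Ω) (f : Ω → Ω) : Prop := ∀ x ∈ P, x ∈ W ↔ f x ∈ W

theorem closed_kp (F : FusionSystem S) {W : Subgroup Ω} (hW : Nz S W) : Closed F (Kp W) where
  congr _ _ _ _ h he x hx := by rw [he x hx]; exact h x hx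
  comp _ _ _ _ _ _ h1 h2 h3 x hx := (h1 x hx).trans (h2 _ (h3 x hx))
  inv _ _ _ _ _ h _ he _ y hy := by
    obtain ⟨x, hx, rfl, h2⟩ := he y hy
    rw [h2]
    exact (h x hx).symm
  conj _ _ s hs x _ := ⟨hW s hs x, fun h => by
    have h1 := hW.inv hs h
    rwa [mul_assoc, inv_mul_cancel_right, inv_mul_cancel_left] at h1⟩

theorem sc_of_odd [Finite S] (hS : IsPGroup 2 S) (hF : F.IsSaturated 2) {W : Subgroup Ω} (hWS : W ≤ S) (hW : Nz S W)
    (h : ∀ P f, (P = S ∨ F.IsEssential 2 P) → Od F P f → ∀ x ∈ P, x ∈ W → f x ∈ W) : F.StronglyClosed W :=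
  stronglyClosed_of_mp hWS fun P f hf hP x hx =>
    (odd_gen hS hF (closed_kp F hW) (fun P f h2 h3 _ hy => h3.iff (h P f h2 h3) hy) P f hf x hx).1 (hP hx)

theorem not_comm_of_sc [Finite S] (hS : IsPGroup 2 S) (hF : F.IsSaturated 2) (hc : F.core = ⊥) {W : Subgroup Ω}
    (hW : F.StronglyClosed W) (h : ∀ x ∈ W, ∀ y ∈ W, x * y = y * x) : W = ⊥ := by
  have : Fact (Nat.Prime 2) := ⟨Nat.prime_two⟩
  by_contra hne
  exact (S5089.result 2 hS F hF).2 ⟨W, hne, ⟨⟨fun a b => Subtype.ext (h a a.2 b b.2)⟩⟩, hW⟩ hc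

theorem cen_mem {P : Subgroup Ω} (hP : P = S ∨ F.IsEssential 2 P) {z : Ω} (hz : z ∈ S) (hc : ∀ x ∈ P, x * z = z * x) :
    z ∈ P := by
  rcases hP with rfl | hP
  · exact hz
  · exact hP.1.2 P (isConj_refl F hP.1.1) ⟨hz, hc⟩

/-- a central element fixed by all odd maps is trivial -/
theorem eq_one_of_fix [Finite S] (hS : IsPGroup 2 S) (hF : F.IsSaturated 2) (hc : F.core = ⊥) {z : Ω} (hz : z ∈ S)
    (h1 : ∀ x ∈ S, x * z = z * x) (h2 : ∀ P f, Od F P f → z ∈ P → f z = z) : z = 1 := by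
  have h3 : Subgroup.zpowers z ≤ S := Subgroup.zpowers_le.2 hz
  have h4 : ∀ s ∈ S, ∀ w ∈ Subgroup.zpowers z, s * w = w * s := by
    rintro s hs _ ⟨n, rfl⟩
    exact (Commute.zpow_right (h1 s hs) n).eq
  rw [← Subgroup.zpowers_eq_bot]
  refine not_comm_of_sc hS hF hc (sc_of_odd hS hF h3 (fun s hs w hw => by rw [h4 s hs w hw, mul_inv_cancel_right]; exact hw)
    fun P f hP hf x _ hx => ?_) fun x hx y hy => h4 x (h3 hx) y hy
  have h5 : z ∈ P := cen_mem hP hz fun y hy => h1 y (hf.1.le hy)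
  obtain ⟨φ, -, h6⟩ := hf.1
  obtain ⟨n, rfl⟩ := hx
  have h7 : f (z ^ n) = z ^ n := by
    rw [← h6 _ (P.zpow_mem h5 n)]
    conv_rhs => rw [← h2 P f hf h5, ← h6 z h5, ← map_zpow]
    rfl
  show f (z ^ n) ∈ _
  rw [h7]
  exact ⟨n, rfl⟩

end Cfsg.Agent.FS.N.D
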